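import Groth.Agent.S1983
import Groth.Agent.Etalg.RamDVR
import Groth.Agent.Etalg.RamBasic
import Groth.Agent.Etalg.RamWeak
import Groth.Agent.Etalg.SepSol3
import Mathlib.FieldTheory.IntermediateField.Adjoin.Basic

/-!
# Solutions go up: a finite extension of a solution is a solution
-/

set_option autoImplicit false
universe u

namespace K362.SolUp

open Groth.Agent.Etalg.RamBasic IsLocalRing EtRam IntermediateField

/-- the image of `K₁` in `M` generates an intermediate field `M₁` over `L`, as an algebra -/
theorem adjoin_stage {K L K₁ M : Type u} [Field K] [Field L] [Field K₁] [Field M] [Algebra K L] [Algebra K K₁]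
    [Algebra K M] [Algebra L M] [Algebra K₁ M] [IsScalarTower K L M] [IsScalarTower K K₁ M]
    [Algebra.IsAlgebraic K K₁] (f : K₁ →+* adjoin L (Set.range (algebraMap K₁ M)))
    (hf : ∀ x, ((f x : adjoin L (Set.range (algebraMap K₁ M))) : M) = algebraMap K₁ M x) :
    Algebra.adjoin L (Set.range f) = ⊤ := by
  have halg : ∀ x ∈ Set.range (algebraMap K₁ M), IsAlgebraic L x := by
    rintro _ ⟨x, rfl⟩
    have h1 : IsAlgebraic K x := Algebra.IsAlgebraic.isAlgebraic x
    exact (h1.algebraMap (A := M)).tower_top L
  have h2 := adjoin_toSubalgebra_of_isAlgebraic halg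
  rw [eq_top_iff]
  rintro ⟨x, hx⟩ -
  have hx' : x ∈ Algebra.adjoin L (Set.range (algebraMap K₁ M)) := by
    rw [← h2]; exact hx
  have key : ∀ y ∈ Algebra.adjoin L (Set.range (algebraMap K₁ M)),
      ∀ hy : y ∈ adjoin L (Set.range (algebraMap K₁ M)),
        (⟨y, hy⟩ : adjoin L (Set.range (algebraMap K₁ M))) ∈ Algebra.adjoin L (Set.range f) := by
    intro y hy
    induction hy using Algebra.adjoin_induction with
    | mem y hy =>
      intro hy'
      obtain ⟨z, rfl⟩ := hy
      refine Algebra.subset_adjoin ⟨z, ?_⟩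
      exact Subtype.ext (hf z)
    | algebraMap r =>
      intro hy'
      exact Subalgebra.algebraMap_mem _ r
    | add y z hy hz ihy ihz =>
      intro h'
      have hy1 : y ∈ adjoin L (Set.range (algebraMap K₁ M)) := by
        have : y ∈ (adjoin L (Set.range (algebraMap K₁ M))).toSubalgebra := by rw [h2]; exact hy
        exact this
      have hz1 : z ∈ adjoin L (Set.range (algebraMap K₁ M)) := by
        have : z ∈ (adjoin L (Set.range (algebraMap K₁ M))).toSubalgebra := by rw [h2]; exact hz
        exact this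
      exact add_mem (ihy hy1) (ihz hz1)
    | mul y z hy hz ihy ihz =>
      intro h'
      have hy1 : y ∈ adjoin L (Set.range (algebraMap K₁ M)) := by
        have : y ∈ (adjoin L (Set.range (algebraMap K₁ M))).toSubalgebra := by rw [h2]; exact hy
        exact this
      have hz1 : z ∈ adjoin L (Set.range (algebraMap K₁ M)) := by
        have : z ∈ (adjoin L (Set.range (algebraMap K₁ M))).toSubalgebra := by rw [h2]; exact hz
        exact this
      exact mul_mem (ihy hy1) (ihz hz1)
  exact key x hx' hx

theorem finite_stage {K L K₁ M : Type u} [Field K] [Field L] [Field K₁] [Field M] [Algebra K L] [Algebra K K₁]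
    [Algebra K M] [Algebra L M] [Algebra K₁ M] [IsScalarTower K L M] [IsScalarTower K K₁ M]
    [FiniteDimensional K K₁] : FiniteDimensional L (adjoin L (Set.range (algebraMap K₁ M))) := by
  classical
  obtain ⟨s, hs⟩ := (Module.Finite.fg_top : (⊤ : Submodule K K₁).FG)
  have h1 : adjoin L (Set.range (algebraMap K₁ M)) = adjoin L ((s.image (algebraMap K₁ M) : Finset M) : Set M) := by
    apply le_antisymm
    · rw [adjoin_le_iff]
      rintro _ ⟨x, rfl⟩
      have hx : x ∈ Submodule.span K (s : Set K₁) := by rw [hs]; trivial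
      induction hx using Submodule.span_induction with
      | mem x hx => exact subset_adjoin _ _ (by rw [Finset.coe_image]; exact ⟨x, hx, rfl⟩)
      | zero => rw [map_zero]; exact zero_mem _
      | add x y _ _ hx hy => rw [map_add]; exact add_mem hx hy
      | smul r x _ hx =>
        rw [Algebra.smul_def, map_mul, ← IsScalarTower.algebraMap_apply, IsScalarTower.algebraMap_apply K L M]
        exact mul_mem (IntermediateField.algebraMap_mem _ _) hx
    · rw [adjoin_le_iff]
      intro x hx
      rw [Finset.mem_coe, Finset.mem_image] at hx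
      obtain ⟨y, -, rfl⟩ := hx
      exact subset_adjoin _ _ ⟨y, rfl⟩
  rw [h1]
  apply finiteDimensional_adjoin
  intro x hx
  rw [Finset.mem_coe, Finset.mem_image] at hx
  obtain ⟨y, -, rfl⟩ := hx
  exact ((Algebra.IsIntegral.isIntegral (R := K) y).map (IsScalarTower.toAlgHom K K₁ M)).tower_top

/-- A finite extension of a solution is a solution. -/
theorem isSolution_up {A B K L K₁ K₂ : Type u} [CommRing A] [IsDomain A] [IsDiscreteValuationRing A]
    [CommRing B] [IsDomain B] [IsDiscreteValuationRing B] [Algebra A B] [IsLocalHom (algebraMap A B)]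
    [Field K] [Field L] [Algebra A K] [IsFractionRing A K] [Algebra B L] [IsFractionRing B L]
    [Algebra K L] [Algebra A L] [IsScalarTower A K L] [IsScalarTower A B L]
    [Field K₁] [Algebra K K₁] [FiniteDimensional K K₁] [Field K₂] [Algebra K K₂] [Algebra K₁ K₂]
    [IsScalarTower K K₁ K₂] [FiniteDimensional K₁ K₂] (h : IsSolution B K L K₁) : IsSolution B K L K₂ := by
  intro M _ _ _ _ _ _ hadj W hW
  let i1 : Algebra K₁ M := ((algebraMap K₂ M).comp (algebraMap K₁ K₂)).toAlgebra
  have t1 : IsScalarTower K₁ K₂ M := IsScalarTower.of_algebraMap_eq' rfl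
  have t2 : IsScalarTower K K₁ M := IsScalarTower.of_algebraMap_eq fun x => by
    rw [IsScalarTower.algebraMap_apply K₁ K₂ M, ← IsScalarTower.algebraMap_apply K K₁ K₂,
      ← IsScalarTower.algebraMap_apply K K₂ M]
  let M₁ : IntermediateField L M := adjoin L (Set.range (algebraMap K₁ M))
  have hfinM₁ : FiniteDimensional L M₁ := finite_stage (K := K)
  let f : K₁ →+* M₁ := (algebraMap K₁ M).codRestrict M₁ (fun x => subset_adjoin _ _ ⟨x, rfl⟩)
  let i2 : Algebra K₁ M₁ := f.toAlgebra
  have t3 : IsScalarTower K₁ M₁ M := IsScalarTower.of_algebraMap_eq fun x => rfl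
  have t4 : IsScalarTower K K₁ M₁ := IsScalarTower.of_algebraMap_eq fun x => Subtype.ext (by
    show algebraMap K M x = algebraMap K₁ M (algebraMap K K₁ x)
    rw [← IsScalarTower.algebraMap_apply])
  have hadj₁ : Algebra.adjoin L (Set.range (algebraMap K₁ M₁)) = ⊤ := adjoin_stage (K := K) f (fun x => rfl)
  let W₁ : ValuationSubring M₁ := W.comap (algebraMap M₁ M)
  have hW₁ : Dominates B ((algebraMap L M₁).comp (algebraMap B L)) W₁ := by
    rw [← dominates_comp_iff]
    exact hW
  have hsol := h M₁ hadj₁ W₁ hW₁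
  let V₁ : ValuationSubring K₁ := W₁.comap f
  have hV₁ : Dominates A ((algebraMap K K₁).comp (algebraMap A K)) V₁ := by
    rw [← dominates_comp_iff]
    have h1 : f.comp ((algebraMap K K₁).comp (algebraMap A K)) =
        ((algebraMap L M₁).comp (algebraMap B L)).comp (algebraMap A B) := by
      ext x
      show algebraMap K₁ M (algebraMap K K₁ (algebraMap A K x)) = algebraMap L M (algebraMap B L (algebraMap A B x))
      rw [← IsScalarTower.algebraMap_apply K K₁ M, ← IsScalarTower.algebraMap_apply A B L,
        IsScalarTower.algebraMap_apply A K L, ← IsScalarTower.algebraMap_apply K L M]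
    rw [h1]
    refine ⟨fun a => hW₁.1 _, fun a ha => hW₁.2 _ ?_⟩
    exact (((local_hom_TFAE (algebraMap A B)).out 0 2 rfl rfl).mp ‹_›) (Ideal.mem_map_of_mem _ ha)
  have dV₁ : IsDiscreteValuationRing V₁ := Groth.Agent.Etalg.RamDVR.isDVR_of_dominates hV₁
  have dW₁ : IsDiscreteValuationRing W₁ := Groth.Agent.Etalg.RamDVR.isDVR_of_dominates hW₁
  let j1 : Algebra V₁ W₁ := (inclOfComap W₁ f).toAlgebra
  have l1 : IsLocalHom (algebraMap V₁ W₁) := inferInstanceAs (IsLocalHom (inclOfComap W₁ f))
  let j2 : Algebra V₁ M₁ := (f.comp (algebraMap V₁ K₁)).toAlgebra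
  have s1 : IsScalarTower V₁ K₁ M₁ := IsScalarTower.of_algebraMap_eq fun _ => rfl
  have s2 : IsScalarTower V₁ W₁ M₁ := IsScalarTower.of_algebraMap_eq fun _ => rfl
  have hinj : Function.Injective (algebraMap V₁ W₁) := by
    intro a b hab
    have h1 := congrArg (fun x : W₁ => (x : M₁)) hab
    exact Subtype.ext (f.injective h1)
  have hg : Algebra.IsGeometricallyReduced (ResidueField V₁) (ResidueField W₁) :=
    (Groth.Agent.Etalg.SepSol3.geomReduced_iff (inclOfComap W₁ f)).mp hsol.2
  have hsol₂ : IsSolution W₁ K₁ M₁ K₂ := Groth.Agent.S1983.result V₁ W₁ K₁ M₁ hinj hsol.1 K₂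
  have hadj₂ : Algebra.adjoin M₁ (Set.range (algebraMap K₂ M)) = ⊤ := by
    rw [eq_top_iff]
    intro x _
    have hx : x ∈ Algebra.adjoin L (Set.range (algebraMap K₂ M)) := by rw [hadj]; trivial
    induction hx using Algebra.adjoin_induction with
    | mem y hy => exact Algebra.subset_adjoin hy
    | algebraMap l => exact Subalgebra.algebraMap_mem _ (algebraMap L M₁ l)
    | add x y _ _ hx hy => exact add_mem (hx trivial) (hy trivial)
    | mul x y _ _ hx hy => exact mul_mem (hx trivial) (hy trivial)
  have hdom : Dominates W₁ ((algebraMap M₁ M).comp (algebraMap W₁ M₁)) W :=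
    (dominates_comp_subtype_iff (algebraMap M₁ M) W₁ W).2 rfl
  exact hsol₂ M hadj₂ W hdom

end K362.SolUp
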