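import Groth.Agent.EtAlg.K362.ASRel
import Groth.Agent.S7150
import Groth.Agent.Fdesc.GeomRed
import Mathlib.RingTheory.DiscreteValuationRing.Basic

/-!
# Compatible sections of residue maps, perfect cores
-/

set_option autoImplicit false
universe u

namespace K362.ASData

open IsLocalRing

section Perfect

variable {κ κ' : Type*} [Field κ] [Field κ'] [Algebra κ κ'] {p : ℕ} [hp : Fact p.Prime]
  (hk : ∀ x : κ', (∀ n : ℕ, ∃ y : κ', y ^ (p ^ n) = x) ↔ x ∈ Set.range (algebraMap κ κ'))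
include hk

theorem exists_root [CharP κ' p] (x : κ') (hx : x ∈ Set.range (algebraMap κ κ')) (f : ℕ) :
    ∃ c ∈ Set.range (algebraMap κ κ'), c ^ p ^ f = x := by
  obtain ⟨y, hy⟩ := (hk x).mpr hx f
  refine ⟨y, (hk y).mp fun n => ?_, hy⟩
  obtain ⟨w, hw⟩ := (hk x).mpr hx (n + f)
  refine ⟨w, ?_⟩
  have h1 : (w ^ p ^ n) ^ p ^ f = y ^ p ^ f := by rw [← pow_mul, ← pow_add, hw, hy]
  have h2 := iterateFrobenius_inj κ' p f
  apply h2
  rw [iterateFrobenius_def, iterateFrobenius_def]
  exact h1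

theorem surjective_pow [CharP κ' p] : Function.Surjective (fun x : κ => x ^ p) := by
  intro x
  obtain ⟨c, ⟨y, hy⟩, hc⟩ := exists_root hk (algebraMap κ κ' x) ⟨x, rfl⟩ 1
  refine ⟨y, ?_⟩
  apply (algebraMap κ κ').injective
  show algebraMap κ κ' (y ^ p) = _
  rw [map_pow, hy, ← hc, pow_one]

theorem exists_max_root (x : κ') (hx : x ∉ Set.range (algebraMap κ κ')) :
    ∃ (e : ℕ) (μ : κ'), μ ^ p ^ e = x ∧ ∀ y : κ', y ^ p ≠ μ := by
  classical
  have h1 : ∃ n : ℕ, ¬ ∃ y : κ', y ^ p ^ n = x := by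
    by_contra hcon
    push Not at hcon
    exact hx ((hk x).mp hcon)
  have h2 := Nat.find_spec h1
  have h3 : Nat.find h1 ≠ 0 := by
    intro h0
    rw [h0] at h2
    exact h2 ⟨x, by rw [pow_zero, pow_one]⟩
  obtain ⟨e, he⟩ := Nat.exists_eq_succ_of_ne_zero h3
  have h4 : ∃ y : κ', y ^ p ^ e = x := by
    by_contra hcon
    have := Nat.find_min' h1 hcon
    omega
  obtain ⟨μ, hμ⟩ := h4
  refine ⟨e, μ, hμ, fun y hy => ?_⟩
  apply h2
  refine ⟨y, ?_⟩
  rw [he, Nat.succ_eq_add_one, pow_succ, mul_comm, pow_mul, hy, hμ]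

end Perfect

section Quot

variable {A : Type*} [CommRing A] [IsDomain A] [IsDiscreteValuationRing A] {π : A}

theorem span_pow_ne_top (hπ : Irreducible π) {N : ℕ} (hN : N ≠ 0) : Ideal.span {π ^ N} ≠ ⊤ := by
  rw [Ne, Ideal.span_singleton_eq_top]
  exact fun h => hπ.not_isUnit ((isUnit_pow_iff hN).mp h)

theorem nontrivial_quot (hπ : Irreducible π) {N : ℕ} (hN : N ≠ 0) : Nontrivial (A ⧸ Ideal.span {π ^ N}) :=
  Ideal.Quotient.nontrivial_iff.mpr (span_pow_ne_top hπ hN)

theorem isLocalRing_quot (hπ : Irreducible π) {N : ℕ} (hN : N ≠ 0) : IsLocalRing (A ⧸ Ideal.span {π ^ N}) := by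
  have := nontrivial_quot hπ hN
  exact IsLocalRing.of_surjective' (Ideal.Quotient.mk _) Ideal.Quotient.mk_surjective

theorem isUnit_mk_iff (hπ : Irreducible π) {N : ℕ} (hN : N ≠ 0) (a : A) :
    IsUnit (Ideal.Quotient.mk (Ideal.span {π ^ N}) a) ↔ IsUnit a := by
  refine ⟨fun h => ?_, fun h => h.map _⟩
  obtain ⟨b, hb⟩ := h.exists_right_inv
  obtain ⟨b, rfl⟩ := Ideal.Quotient.mk_surjective b
  rw [← map_mul, ← map_one (Ideal.Quotient.mk _), Ideal.Quotient.eq, Ideal.mem_span_singleton] at hb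
  by_contra ha
  have h1 : a ∈ maximalIdeal A := (mem_maximalIdeal _).mpr ha
  have h2 : a * b - 1 ∈ maximalIdeal A := by
    refine Ideal.mem_of_dvd _ hb (Ideal.pow_mem_of_mem _ ?_ N (Nat.pos_of_ne_zero hN))
    exact (mem_maximalIdeal _).mpr hπ.not_isUnit
  have h3 : (1 : A) ∈ maximalIdeal A := by
    have := sub_mem (Ideal.mul_mem_right b _ h1) h2
    rwa [sub_sub_cancel] at this
  exact (Ideal.ne_top_iff_one _).mp (maximalIdeal.isMaximal A).ne_top h3

theorem maximalIdeal_pow (hπ : Irreducible π) {N : ℕ} (hN : N ≠ 0) [IsLocalRing (A ⧸ Ideal.span {π ^ N})] :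
    maximalIdeal (A ⧸ Ideal.span {π ^ N}) ^ N = ⊥ := by
  have h1 : maximalIdeal (A ⧸ Ideal.span {π ^ N}) = Ideal.span {Ideal.Quotient.mk (Ideal.span {π ^ N}) π} := by
    apply le_antisymm
    · intro x hx
      obtain ⟨a, rfl⟩ := Ideal.Quotient.mk_surjective x
      rw [mem_maximalIdeal, mem_nonunits_iff, isUnit_mk_iff hπ hN, ← mem_nonunits_iff, ← mem_maximalIdeal,
        hπ.maximalIdeal_eq, Ideal.mem_span_singleton] at hx
      rw [Ideal.mem_span_singleton]
      exact map_dvd _ hx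
    · rw [Ideal.span_singleton_le_iff_mem, mem_maximalIdeal, mem_nonunits_iff, isUnit_mk_iff hπ hN]
      exact hπ.not_isUnit
  rw [h1, Ideal.span_singleton_pow, ← map_pow, Ideal.span_singleton_eq_bot, Ideal.Quotient.eq_zero_iff_mem]
  exact Ideal.mem_span_singleton_self _

end Quot

theorem exists_sec {A B : Type u} [CommRing A] [IsDomain A] [IsDiscreteValuationRing A]
    [CommRing B] [IsDomain B] [IsDiscreteValuationRing B] [Algebra A B]
    [IsLocalHom (algebraMap A B)] {p : ℕ} (hp : p.Prime) (hpA : (p : A) = 0) {π : A} (hπ : Irreducible π)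
    (hπB : Irreducible (algebraMap A B π)) (hperf : Function.Surjective (fun x : ResidueField A => x ^ p))
    (N : ℕ) (hN : N ≠ 0) :
    ∃ s : ResidueField B → B, K362.ASRel.Sec B (algebraMap A B π) N s ∧
      ∀ x : ResidueField A, ∃ a : A, residue A a = x ∧
        (algebraMap A B π) ^ N ∣ s (algebraMap (ResidueField A) (ResidueField B) x) - algebraMap A B a := by
  classical
  let I : Ideal A := Ideal.span {π ^ N}
  let J : Ideal B := Ideal.span {(algebraMap A B π) ^ N}
  have nA : Nontrivial (A ⧸ I) := nontrivial_quot hπ hN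
  have nB : Nontrivial (B ⧸ J) := nontrivial_quot hπB hN
  have lA : IsLocalRing (A ⧸ I) := isLocalRing_quot hπ hN
  have lB : IsLocalRing (B ⧸ J) := isLocalRing_quot hπB hN
  have hIJ : I ≤ J.comap (algebraMap A B) := by
    rw [Ideal.span_singleton_le_iff_mem, Ideal.mem_comap, map_pow]
    exact Ideal.mem_span_singleton_self _
  let φ : A ⧸ I →+* B ⧸ J := Ideal.quotientMap J (algebraMap A B) hIJ
  let i1 : Algebra (A ⧸ I) (B ⧸ J) := φ.toAlgebra
  have hφ : ∀ a : A, algebraMap (A ⧸ I) (B ⧸ J) (Ideal.Quotient.mk I a) = Ideal.Quotient.mk J (algebraMap A B a) :=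
    fun a => Ideal.quotientMap_mk
  have hloc : IsLocalHom (algebraMap (A ⧸ I) (B ⧸ J)) := by
    refine ⟨fun x hx => ?_⟩
    obtain ⟨a, rfl⟩ := Ideal.Quotient.mk_surjective x
    rw [hφ, isUnit_mk_iff hπB hN] at hx
    rw [isUnit_mk_iff hπ hN]
    exact IsLocalHom.map_nonunit a hx
  have hlA : IsLocalHom (Ideal.Quotient.mk I) := ⟨fun a ha => (isUnit_mk_iff hπ hN a).mp ha⟩
  have hlB : IsLocalHom (Ideal.Quotient.mk J) := ⟨fun a ha => (isUnit_mk_iff hπB hN a).mp ha⟩
  have cA : CharP (A ⧸ I) p := by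
    rw [CharP.charP_iff_prime_eq_zero hp, ← map_natCast (Ideal.Quotient.mk I), hpA, map_zero]
  have cκ : CharP (ResidueField (A ⧸ I)) p := by
    rw [CharP.charP_iff_prime_eq_zero hp, ← map_natCast (residue (A ⧸ I)), CharP.cast_eq_zero, map_zero]
  have hfact : Fact p.Prime := ⟨hp⟩
  have hsurj : Function.Surjective (frobenius (ResidueField (A ⧸ I)) p) := by
    intro x
    obtain ⟨x, rfl⟩ := residue_surjective x
    obtain ⟨a, rfl⟩ := Ideal.Quotient.mk_surjective x
    obtain ⟨y, hy⟩ := hperf (residue A a)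
    obtain ⟨b, rfl⟩ := residue_surjective y
    refine ⟨residue _ (Ideal.Quotient.mk I b), ?_⟩
    rw [frobenius_def]
    have h1 : residue A (b ^ p - a) = 0 := by
      rw [map_sub, map_pow, sub_eq_zero]
      exact hy
    rw [residue_eq_zero_iff] at h1
    rw [← map_pow, ← map_pow, ← sub_eq_zero, ← map_sub, ← map_sub, residue_eq_zero_iff, mem_maximalIdeal,
      mem_nonunits_iff, isUnit_mk_iff hπ hN]
    exact (mem_maximalIdeal _).mp h1
  have hPR : PerfectRing (ResidueField (A ⧸ I)) p := PerfectRing.ofSurjective _ p hsurj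
  have hPF : PerfectField (ResidueField (A ⧸ I)) := PerfectRing.toPerfectField _ p
  obtain ⟨⟨σ, hσ⟩, h2⟩ := Groth.Agent.S7150.result p hp (A ⧸ I) ⟨N, maximalIdeal_pow hπ hN⟩
  obtain ⟨σ', hσ', hcomp⟩ := h2 (B ⧸ J) ⟨N, maximalIdeal_pow hπB hN⟩
    (Groth.Agent.Fdesc.GeomRed.isGeometricallyReduced_of_perfectField _) σ hσ
  let ρA : ResidueField A →+* ResidueField (A ⧸ I) := ResidueField.map (Ideal.Quotient.mk I)
  let ρB : ResidueField B →+* ResidueField (B ⧸ J) := ResidueField.map (Ideal.Quotient.mk J)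
  let s : ResidueField B → B := fun x => Function.surjInv Ideal.Quotient.mk_surjective (σ' (ρB x))
  have hs : ∀ x, Ideal.Quotient.mk J (s x) = σ' (ρB x) := fun x =>
    Function.surjInv_eq Ideal.Quotient.mk_surjective _
  refine ⟨s, ⟨fun x => ?_, fun x y => ?_, fun x k => ?_⟩, fun x => ?_⟩
  · apply ρB.injective
    show ResidueField.map (Ideal.Quotient.mk J) (residue B (s x)) = _
    rw [ResidueField.map_residue, hs]
    exact RingHom.congr_fun hσ' (ρB x)
  · rw [← Ideal.mem_span_singleton, ← Ideal.Quotient.eq, map_add, hs, hs, hs, map_add, map_add]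
  · rw [← Ideal.mem_span_singleton, ← Ideal.Quotient.eq, map_pow, hs, hs, map_pow, map_pow]
  · obtain ⟨a, ha⟩ := Ideal.Quotient.mk_surjective (σ (ρA x))
    refine ⟨a, ?_, ?_⟩
    · apply ρA.injective
      show ResidueField.map (Ideal.Quotient.mk I) (residue A a) = _
      rw [ResidueField.map_residue, ha]
      exact RingHom.congr_fun hσ (ρA x)
    · rw [← Ideal.mem_span_singleton, ← Ideal.Quotient.eq, hs, ← hφ, ha]
      have h3 : ρB (algebraMap (ResidueField A) (ResidueField B) x) =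
          ResidueField.map (algebraMap (A ⧸ I) (B ⧸ J)) (ρA x) := by
        obtain ⟨x, rfl⟩ := residue_surjective x
        show ResidueField.map (Ideal.Quotient.mk J) (ResidueField.map (algebraMap A B) (residue A x)) =
          ResidueField.map (algebraMap (A ⧸ I) (B ⧸ J)) (ResidueField.map (Ideal.Quotient.mk I) (residue A x))
        rw [ResidueField.map_residue, ResidueField.map_residue, ResidueField.map_residue, ResidueField.map_residue,
          hφ]
      rw [h3]
      exact RingHom.congr_fun hcomp (ρA x)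

end K362.ASData
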