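import Groth.Agent.EtAlg.K362.TotRam
import Groth.Agent.S1984
import Mathlib.RingTheory.Polynomial.Eisenstein.Basic
import Mathlib.RingTheory.Polynomial.GaussLemma
import Mathlib.FieldTheory.SeparableClosure

/-!
# Totally ramified separable extensions of degree a power of the residue characteristic with a nice uniformizer
-/

set_option autoImplicit false
universe u

open Polynomial

namespace K362.NiceExt

open IsLocalRing EtRam Groth.Agent.Etalg.RamBasic

/-- An algebra generated by separable elements is separable. -/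
theorem isSeparable_of_adjoin {F M : Type*} [Field F] [Field M] [Algebra F M] (S : Set M)
    (hS : ∀ x ∈ S, IsSeparable F x) (h : Algebra.adjoin F S = ⊤) : Algebra.IsSeparable F M := by
  refine ⟨fun x => ?_⟩
  have hx : x ∈ Algebra.adjoin F S := by rw [h]; trivial
  rw [← mem_separableClosure_iff]
  induction hx using Algebra.adjoin_induction with
  | mem y hy => exact mem_separableClosure_iff.mpr (hS y hy)
  | algebraMap r => exact (separableClosure F M).algebraMap_mem r
  | add y z _ _ hy hz => exact add_mem hy hz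
  | mul y z _ _ hy hz => exact mul_mem hy hz

section Poly

variable {A : Type u} [CommRing A]

/-- the polynomial `X ^ q - c X - π` -/
noncomputable def poly (q : ℕ) (c π : A) : A[X] := X ^ q - (C c * X + C π)

theorem degree_lin [Nontrivial A] {q : ℕ} (hq : 2 ≤ q) (c π : A) : (C c * X + C π).degree < (q : WithBot ℕ) :=
  lt_of_le_of_lt degree_linear_le (by exact_mod_cast (by omega : 1 < q))

theorem monic_poly [Nontrivial A] {q : ℕ} (hq : 2 ≤ q) (c π : A) : (poly q c π).Monic :=
  monic_X_pow_sub (degree_lin hq c π)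

theorem natDegree_poly [Nontrivial A] {q : ℕ} (hq : 2 ≤ q) (c π : A) : (poly q c π).natDegree = q := by
  rw [poly, natDegree_sub_eq_left_of_natDegree_lt, natDegree_X_pow]
  rw [natDegree_X_pow]
  exact lt_of_le_of_lt natDegree_linear_le (by omega)

theorem map_poly {B : Type*} [CommRing B] (f : A →+* B) (q : ℕ) (c π : A) :
    (poly q c π).map f = poly q (f c) (f π) := by
  simp [poly]

theorem irreducible_poly [IsDomain A] [IsDiscreteValuationRing A] {π : A} (hπ : Irreducible π) {q : ℕ} (hq : 2 ≤ q)
    (c : A) (hc : c ∈ maximalIdeal A) : Irreducible (poly q c π) := by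
  have hprime : (Ideal.span {π}).IsPrime := by
    rw [← hπ.maximalIdeal_eq]; infer_instance
  rw [hπ.maximalIdeal_eq] at hc
  apply IsEisensteinAt.irreducible (𝓟 := Ideal.span {π}) _ hprime (monic_poly hq c π).isPrimitive
  · rw [natDegree_poly hq]; omega
  · refine (monic_poly hq c π).isEisensteinAt_of_mem_of_notMem hprime.ne_top ?_ ?_
    · intro k hk
      rw [natDegree_poly hq] at hk
      rw [poly, coeff_sub, coeff_X_pow, if_neg hk.ne, zero_sub, Ideal.neg_mem_iff, coeff_add, coeff_C_mul]
      refine Ideal.add_mem _ (Ideal.mul_mem_right _ _ hc) ?_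
      rw [coeff_C]
      split_ifs
      · exact Ideal.mem_span_singleton_self π
      · exact Ideal.zero_mem _
    · rw [poly, coeff_sub, coeff_X_pow, if_neg (by omega), zero_sub, coeff_add, coeff_C_mul, coeff_X_zero, mul_zero,
        zero_add, coeff_C_zero, Ideal.neg_mem_iff, Ideal.span_singleton_pow, Ideal.mem_span_singleton]
      intro hd
      obtain ⟨c, hc⟩ := hd
      have : π * (π * c - 1) = 0 := by linear_combination -hc
      rcases mul_eq_zero.mp this with h | h
      · exact hπ.ne_zero h
      · exact hπ.not_isUnit (IsUnit.of_mul_eq_one c (by linear_combination h))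

theorem separable_poly {K : Type*} [Field K] {p : ℕ} {k : ℕ} (hk : k ≠ 0) (c π : K)
    (hirr : Irreducible (poly (p ^ k) c π)) (h : CharZero K ∨ (CharP K p ∧ c ≠ 0)) :
    (poly (p ^ k) c π).Separable := by
  rcases h with h | ⟨h, hc⟩
  · exact hirr.separable
  · have h1 : derivative (poly (p ^ k) c π) = - C c := by
      rw [poly, derivative_sub, derivative_X_pow, derivative_add, derivative_C_mul, derivative_X, derivative_C,
        Nat.cast_pow, CharP.cast_eq_zero K p, zero_pow hk, map_zero, zero_mul, mul_one, add_zero, zero_sub]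
    rw [Polynomial.Separable, h1]
    obtain ⟨u, hu⟩ := (isUnit_C.mpr hc.isUnit : IsUnit (C c)).neg
    exact ⟨0, ((u⁻¹ : (K[X])ˣ) : K[X]), by rw [zero_mul, zero_add, ← hu, Units.inv_mul]⟩

end Poly

theorem charZero_or (p : ℕ) (A K : Type*) [CommRing A] [IsLocalRing A] [Field K] [Algebra A K]
    [FaithfulSMul A K] [CharP (ResidueField A) p] : CharZero K ∨ CharP K p := by
  rcases CharP.exists' K with h | ⟨l, hl, h⟩
  · exact Or.inl h
  · right
    have h1 : (l : A) = 0 := by
      apply FaithfulSMul.algebraMap_injective A K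
      rw [map_natCast, CharP.cast_eq_zero, map_zero]
    have h2 : (l : ResidueField A) = 0 := by
      have := congrArg (residue A) h1
      rwa [map_natCast, map_zero] at this
    have h3 := (CharP.cast_eq_zero_iff (ResidueField A) p l).mp h2
    have h4 : p ≠ 1 := CharP.char_ne_one (ResidueField A) p
    rwa [((Nat.dvd_prime hl.out).mp h3).resolve_left h4]

theorem exists_ext (p : ℕ) (hp : p.Prime) (A K : Type u)
    [CommRing A] [IsDomain A] [IsDiscreteValuationRing A] [Field K] [Algebra A K] [IsFractionRing A K]
    [CharP (IsLocalRing.ResidueField A) p] (π : A) (hπ : Irreducible π)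
    (n : ℕ) (hn : 1 < n) (k : ℕ) :
    ∃ (L : Type u) (_ : Field L) (_ : Algebra K L) (_ : Algebra A L) (_ : IsScalarTower A K L),
      Module.finrank K L = p ^ k ∧ Algebra.IsSeparable K L ∧ IsTotallyRamified A (algebraMap A L) ∧
      ∃ πB b b' : L,
        πB ∈ integralClosure A L ∧ b ∈ integralClosure A L ∧ b' ∈ integralClosure A L ∧
        πB ^ (p ^ k) = algebraMap A L π + algebraMap A L π ^ n * b ∧
        πB ^ (p ^ k) = algebraMap A L π + πB ^ (n * p ^ k) * b' := by
  classical
  rcases eq_or_ne k 0 with rfl | hk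
  · -- the trivial case
    have htot := (K362.TotRam.isTotallyRamified (A := A) (K := K) (L := K) (e := 1)
      (y := algebraMap A K π) hπ one_ne_zero (by rw [Module.finrank_self]) (fun V hV => by rw [pow_one]; rfl)).1
    refine ⟨K, inferInstance, inferInstance, inferInstance, inferInstance, by rw [Module.finrank_self, pow_zero],
      inferInstance, htot, algebraMap A K π, 0, 0, ?_⟩
    refine ⟨isIntegral_algebraMap, Subalgebra.zero_mem _, Subalgebra.zero_mem _, ?_, ?_⟩
    · rw [pow_zero, pow_one, mul_zero, add_zero]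
    · rw [pow_zero, pow_one, mul_zero, add_zero]
  set q := p ^ k with hq
  have hq2 : 2 ≤ q := by
    calc 2 ≤ p := hp.two_le
      _ = p ^ 1 := (pow_one p).symm
      _ ≤ p ^ k := Nat.pow_le_pow_right hp.pos (Nat.one_le_iff_ne_zero.mpr hk)
  set m := n + q - 1 with hm
  have hcm : π ^ m ∈ maximalIdeal A := by
    rw [hπ.maximalIdeal_eq, Ideal.mem_span_singleton]
    exact dvd_pow_self π (by omega)
  have hirrA := irreducible_poly hπ hq2 (π ^ m) hcm
  set f : K[X] := poly q (algebraMap A K (π ^ m)) (algebraMap A K π) with hf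
  have hfmap : (poly q (π ^ m) π).map (algebraMap A K) = f := map_poly _ _ _ _
  have hirr : Irreducible f := by
    rw [← hfmap]
    exact ((monic_poly hq2 (π ^ m) π).irreducible_iff_irreducible_map_fraction_map (K := K)).mp hirrA
  have hfm : f.Monic := monic_poly hq2 _ _
  have hfd : f.natDegree = q := natDegree_poly hq2 _ _
  have hπ0 : algebraMap A K π ≠ 0 := by
    rw [Ne, map_eq_zero_iff _ (IsFractionRing.injective A K)]; exact hπ.ne_zero
  have hfsep : f.Separable := by
    refine separable_poly hk _ _ hirr ?_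
    rcases charZero_or p A K with h | h
    · exact Or.inl h
    · exact Or.inr ⟨h, by rw [map_pow]; exact pow_ne_zero _ hπ0⟩
  have hfact : Fact (Irreducible f) := ⟨hirr⟩
  let L := AdjoinRoot f
  let y : L := AdjoinRoot.root f
  have hpb := AdjoinRoot.powerBasis hirr.ne_zero
  have hfin : FiniteDimensional K L := (AdjoinRoot.powerBasis hirr.ne_zero).finite
  have hdeg : Module.finrank K L = q := by
    rw [(AdjoinRoot.powerBasis hirr.ne_zero).finrank, AdjoinRoot.powerBasis_dim, hfd]
  have hyf : aeval y f = 0 := by rw [AdjoinRoot.aeval_eq, AdjoinRoot.mk_self]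
  have hsep : Algebra.IsSeparable K L := by
    refine isSeparable_of_adjoin {y} ?_ AdjoinRoot.adjoinRoot_eq_top
    rintro _ rfl
    exact hfsep.of_dvd (minpoly.dvd K y hyf)
  have t1 : IsScalarTower A K L := inferInstance
  have halg : algebraMap A L = (algebraMap K L).comp (algebraMap A K) := IsScalarTower.algebraMap_eq A K L
  have hyeq : y ^ q = algebraMap A L π ^ m * y + algebraMap A L π := by
    have h1 : aeval y (poly q (algebraMap A K (π ^ m)) (algebraMap A K π)) = 0 := hyf
    rw [poly, map_sub, map_pow, aeval_X, map_add, map_mul, aeval_X, aeval_C, aeval_C] at h1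
    rw [map_pow, map_pow, ← IsScalarTower.algebraMap_apply] at h1
    exact sub_eq_zero.mp h1
  have hyint : IsIntegral A y := by
    refine ⟨poly q (π ^ m) π, monic_poly hq2 _ _, ?_⟩
    rw [poly, eval₂_sub, eval₂_X_pow, eval₂_add, eval₂_mul, eval₂_C, eval₂_X, eval₂_C, hyeq, map_pow, sub_self]
  have hmem : ∀ V : ValuationSubring L, Dominates A ((algebraMap K L).comp (algebraMap A K)) V →
      ∀ x : L, IsIntegral A x → x ∈ V := by
    intro V hV x hx
    refine Groth.Agent.Etalg.DVRExt.mem_of_isIntegralElem V _ hV.1 ?_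
    rw [← halg]
    exact hx
  have hm1 : m = (m - 1) + 1 := by omega
  have hfactor : y ^ q = algebraMap A L π * (1 + algebraMap A L π ^ (m - 1) * y) := by
    rw [hyeq]
    conv_lhs => rw [hm1, pow_succ]
    ring
  have hval1 : ∀ V : ValuationSubring L, Dominates A ((algebraMap K L).comp (algebraMap A K)) V →
      V.valuation (1 + algebraMap A L π ^ (m - 1) * y) = 1 := by
    intro V hV
    have h1 : V.valuation (algebraMap A L π ^ (m - 1) * y) < 1 := by
      rw [map_mul, map_pow]
      have h2 : V.valuation (algebraMap A L π) < 1 := K362.TotRam.valuation_uniformizer_lt (K := K) hπ hV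
      have h3 : V.valuation y ≤ 1 := (V.valuation_le_one_iff _).mpr (hmem V hV y hyint)
      have h4 : V.valuation (algebraMap A L π) ^ (m - 1) < 1 := pow_lt_one₀ zero_le h2 (by omega)
      calc _ ≤ V.valuation (algebraMap A L π) ^ (m - 1) * 1 := mul_le_mul_right h3 _
        _ < 1 := by rwa [mul_one]
    rw [Valuation.map_add_eq_of_lt_left, map_one]
    rwa [map_one]
  have hval : ∀ V : ValuationSubring L, Dominates A ((algebraMap K L).comp (algebraMap A K)) V →
      V.valuation y ^ q = V.valuation (algebraMap K L (algebraMap A K π)) := by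
    intro V hV
    rw [← map_pow, hfactor, map_mul, hval1 V hV, mul_one]
    rfl
  obtain ⟨htot, -⟩ := K362.TotRam.isTotallyRamified hπ (by omega : q ≠ 0) hdeg.le hval
  obtain ⟨⟨V, hV⟩, huniq, -⟩ := id htot
  have hiff := Groth.Agent.S1984.mem_iff_isIntegral V hV (fun V' h => huniq V' V h hV)
  refine ⟨L, inferInstance, inferInstance, inferInstance, t1, hdeg, hsep, halg ▸ htot, y, algebraMap A L π ^ (q - 1) * y,
    algebraMap A L π ^ (q - 1) * y / (1 + algebraMap A L π ^ (m - 1) * y) ^ n, hyint, ?_, ?_, ?_, ?_⟩
  · exact Subalgebra.mul_mem _ (Subalgebra.pow_mem _ (isIntegral_algebraMap : IsIntegral A (algebraMap A L π)) _) hyint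
  · show IsIntegral A _
    rw [← hiff, ← V.valuation_le_one_iff, map_div₀, map_pow, hval1 V hV, one_pow, div_one, V.valuation_le_one_iff]
    exact V.mul_mem _ _ (pow_mem (hV.1 π) _) (hmem V hV y hyint)
  · rw [hyeq, ← mul_assoc, ← pow_add, show n + (q - 1) = m by omega]
    ring
  · have h0 : (1 + algebraMap A L π ^ (m - 1) * y) ≠ 0 := by
      intro h
      have := hval1 V hV
      rw [h, map_zero] at this
      exact zero_ne_one this
    rw [mul_comm n q, pow_mul, hfactor, mul_pow]
    have h1 : algebraMap A L π ^ n * (1 + algebraMap A L π ^ (m - 1) * y) ^ n *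
        (algebraMap A L π ^ (q - 1) * y / (1 + algebraMap A L π ^ (m - 1) * y) ^ n) =
        algebraMap A L π ^ n * (algebraMap A L π ^ (q - 1) * y) := by
      rw [mul_assoc, mul_div_cancel₀ _ (pow_ne_zero n h0)]
    rw [h1, ← mul_assoc, ← pow_add, show n + (q - 1) = (m - 1) + 1 by omega, pow_succ]
    ring

end K362.NiceExt
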