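import Groth.Agent.EtAlg.K362.TotRam
import Groth.Agent.EtAlg.K362.NiceExt
import Mathlib.FieldTheory.IsAlgClosed.AlgebraicClosure
import Mathlib.Algebra.BigOperators.Field

/-!
# Totally ramified Artin–Schreier extensions
-/

set_option autoImplicit false
universe u

namespace K362.ASExt

open IsLocalRing EtRam Groth.Agent.Etalg.RamBasic IntermediateField

variable {A K : Type u} [CommRing A] [IsDomain A] [IsDiscreteValuationRing A] [Field K] [Algebra A K]
  [IsFractionRing A K]

theorem exists_ext_unit {p : ℕ} (hp : p.Prime) [CharP K p] {π : A} (hπ : Irreducible π) (u : A) (hu : IsUnit u)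
    (m : ℕ) (hm : 1 ≤ m) (hpm : ¬ p ∣ m) :
    ∃ (K₁ : Type u) (_ : Field K₁) (_ : Algebra K K₁) (w : K₁),
      FiniteDimensional K K₁ ∧ Algebra.IsSeparable K K₁ ∧
      IsTotallyRamified A ((algebraMap K K₁).comp (algebraMap A K)) ∧
      w ^ p - w = algebraMap K K₁ (algebraMap A K u / algebraMap A K π ^ m) := by
  let E := AlgebraicClosure K
  let ξ₀ : K := algebraMap A K u / algebraMap A K π ^ m
  let F : Polynomial K := Polynomial.X ^ p - (Polynomial.X + Polynomial.C ξ₀)
  have hdegF : (Polynomial.X + Polynomial.C ξ₀).degree < (p : WithBot ℕ) := by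
    rw [Polynomial.degree_X_add_C]
    exact_mod_cast hp.one_lt
  have hFm : F.Monic := Polynomial.monic_X_pow_sub hdegF
  have hFdeg : F.degree = p := by
    show (Polynomial.X ^ p - (Polynomial.X + Polynomial.C ξ₀)).degree = (p : WithBot ℕ)
    rw [Polynomial.degree_sub_eq_left_of_degree_lt (by rwa [Polynomial.degree_X_pow]), Polynomial.degree_X_pow]
  have hFnat : F.natDegree = p := Polynomial.natDegree_eq_of_degree_eq_some hFdeg
  obtain ⟨w₀, hw₀⟩ := IsAlgClosed.exists_aeval_eq_zero E F (by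
    rw [hFdeg]
    exact_mod_cast hp.ne_zero)
  have hint : IsIntegral K w₀ := ⟨F, hFm, hw₀⟩
  let K₁ := adjoin K {w₀}
  let w : K₁ := AdjoinSimple.gen K w₀
  have hw1 : Polynomial.aeval w F = 0 := by
    apply (algebraMap K₁ E).injective
    rw [← Polynomial.aeval_algebraMap_apply, map_zero]
    exact hw₀
  have hw : w ^ p - w = algebraMap K K₁ ξ₀ := by
    have h1 : Polynomial.aeval w (Polynomial.X ^ p - (Polynomial.X + Polynomial.C ξ₀)) = 0 := hw1
    rw [map_sub, map_pow, map_add, Polynomial.aeval_X, Polynomial.aeval_C] at h1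
    linear_combination h1
  have hfin : FiniteDimensional K K₁ := adjoin.finiteDimensional hint
  have hrank : Module.finrank K K₁ ≤ p := by
    rw [adjoin.finrank hint, ← hFnat]
    exact Polynomial.natDegree_le_of_dvd (minpoly.dvd _ _ hw₀) hFm.ne_zero
  have hd : F.derivative = -1 := by
    show (Polynomial.X ^ p - (Polynomial.X + Polynomial.C ξ₀)).derivative = -1
    rw [Polynomial.derivative_sub, Polynomial.derivative_X_pow, Polynomial.derivative_add, Polynomial.derivative_X,
      Polynomial.derivative_C, CharP.cast_eq_zero, Polynomial.C_0, zero_mul, add_zero, zero_sub]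
  have hsepF : F.Separable := by
    rw [Polynomial.Separable, hd]
    exact ⟨0, -1, by ring⟩
  have hsep : Algebra.IsSeparable K K₁ :=
    (isSeparable_adjoin_simple_iff_isSeparable K E).mpr (hsepF.of_dvd (minpoly.dvd K w₀ hw₀))
  refine ⟨K₁, inferInstance, inferInstance, w, hfin, hsep, ?_, hw⟩
  -- Bezout
  have hcop : Int.gcd (m : ℤ) p = 1 := by
    rw [Int.gcd_natCast_natCast]
    exact (Nat.Coprime.symm ((Nat.Prime.coprime_iff_not_dvd hp).mpr hpm))
  obtain ⟨a, b, hab⟩ : ∃ a b : ℤ, -(m : ℤ) * a + p * b = 1 := by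
    refine ⟨-Int.gcdA m p, Int.gcdB m p, ?_⟩
    have h1 := Int.gcd_eq_gcd_ab (m : ℤ) p
    rw [hcop] at h1
    have h2 : ((1 : ℕ) : ℤ) = 1 := rfl
    linarith
  refine (K362.TotRam.isTotallyRamified (A := A) (K := K) (L := K₁) (π := π) (e := p)
    (y := w ^ a * (algebraMap K K₁ (algebraMap A K π)) ^ b) hπ hp.ne_zero hrank ?_).1
  intro V hV
  have hπ1 : V.valuation (algebraMap K K₁ (algebraMap A K π)) < 1 := K362.TotRam.valuation_uniformizer_lt hπ hV
  have hπ0 : 0 < V.valuation (algebraMap K K₁ (algebraMap A K π)) :=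
    K362.TotRam.valuation_uniformizer_pos hπ V
  have hvξ : V.valuation (algebraMap K K₁ ξ₀) = V.valuation (algebraMap K K₁ (algebraMap A K π)) ^ (-(m : ℤ)) := by
    have h1 := Groth.Agent.Etalg.RamDVR.valuation_eq_one_of_isUnit hV hu
    simp only [RingHom.comp_apply] at h1
    rw [map_div₀, map_div₀, h1, map_pow, map_pow, zpow_neg, zpow_natCast, one_div]
  have hξ1 : 1 < V.valuation (algebraMap K K₁ ξ₀) := by
    rw [hvξ, zpow_neg, zpow_natCast]
    exact (one_lt_inv₀ (pow_pos hπ0 m)).mpr (pow_lt_one₀ zero_le hπ1 (by omega))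
  have hw1 : 1 < V.valuation w := by
    by_contra hcon
    push Not at hcon
    have h1 : V.valuation (w ^ p - w) ≤ 1 := by
      refine (V.valuation.map_sub _ _).trans (max_le ?_ hcon)
      rw [map_pow]
      exact pow_le_one₀ zero_le hcon
    rw [hw] at h1
    exact absurd hξ1 (not_lt.mpr h1)
  have hvw : V.valuation w ^ p = V.valuation (algebraMap K K₁ (algebraMap A K π)) ^ (-(m : ℤ)) := by
    rw [← hvξ, ← hw, ← map_pow]
    symm
    apply Valuation.map_sub_eq_of_lt_left
    rw [map_pow]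
    have h2 : V.valuation w ^ 1 < V.valuation w ^ p := pow_lt_pow_right₀ hw1 hp.one_lt
    rwa [pow_one] at h2
  have hne := hπ0.ne'
  calc V.valuation (w ^ a * (algebraMap K K₁ (algebraMap A K π)) ^ b) ^ p
      = (V.valuation w ^ p) ^ a * (V.valuation (algebraMap K K₁ (algebraMap A K π)) ^ (p : ℤ)) ^ b := by
        rw [map_mul, map_zpow₀, map_zpow₀, mul_pow, ← zpow_natCast, ← zpow_natCast, ← zpow_natCast, ← zpow_mul,
          ← zpow_mul, ← zpow_mul, ← zpow_mul, mul_comm a, mul_comm b]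
    _ = V.valuation (algebraMap K K₁ (algebraMap A K π)) ^ (-(m : ℤ) * a + p * b) := by
        rw [hvw, ← zpow_mul, ← zpow_mul, ← zpow_add₀ hne]
    _ = V.valuation (algebraMap K K₁ (algebraMap A K π)) := by rw [hab, zpow_one]

theorem exists_ext {p : ℕ} (hp : p.Prime) [CharP K p] {π : A} (hπ : Irreducible π) (T : Finset ℕ)
    (hT : ∀ m ∈ T, 1 ≤ m ∧ ¬ p ∣ m) (a : ℕ → A) (ha : ∀ m ∈ T, IsUnit (a m)) :
    ∃ (K₁ : Type u) (_ : Field K₁) (_ : Algebra K K₁) (w : K₁),
      FiniteDimensional K K₁ ∧ Algebra.IsSeparable K K₁ ∧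
      IsTotallyRamified A ((algebraMap K K₁).comp (algebraMap A K)) ∧
      w ^ p - w = algebraMap K K₁ (∑ m ∈ T, algebraMap A K (a m) / algebraMap A K π ^ m) := by
  classical
  rcases T.eq_empty_or_nonempty with rfl | hne
  · have htot := (K362.TotRam.isTotallyRamified (A := A) (K := K) (L := K) (e := 1)
      (y := algebraMap A K π) hπ one_ne_zero (by rw [Module.finrank_self]) (fun V hV => by rw [pow_one]; rfl)).1
    refine ⟨K, inferInstance, inferInstance, 0, inferInstance, inferInstance, htot, ?_⟩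
    rw [Finset.sum_empty, map_zero, zero_pow hp.ne_zero, sub_zero]
  · obtain ⟨m₁, hm₁, hmax⟩ := Finset.exists_max_image T id hne
    simp only [id] at hmax
    have hπ0 : algebraMap A K π ≠ 0 := by
      rw [Ne, map_eq_zero_iff _ (IsFractionRing.injective A K)]; exact hπ.ne_zero
    let u : A := ∑ m ∈ T, a m * π ^ (m₁ - m)
    have hu : IsUnit u := by
      have h1 : u = a m₁ + ∑ m ∈ T.erase m₁, a m * π ^ (m₁ - m) := by
        show ∑ m ∈ T, a m * π ^ (m₁ - m) = _
        rw [← Finset.add_sum_erase _ _ hm₁, Nat.sub_self, pow_zero, mul_one]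
      by_contra hcon
      have h2 : u ∈ maximalIdeal A := (mem_maximalIdeal _).mpr hcon
      have h3 : ∑ m ∈ T.erase m₁, a m * π ^ (m₁ - m) ∈ maximalIdeal A := by
        refine sum_mem fun m hm => Ideal.mul_mem_left _ _ ?_
        rw [Finset.mem_erase] at hm
        have h4 := hmax m hm.2
        have h5 : m ≠ m₁ := hm.1
        exact Ideal.pow_mem_of_mem _ ((mem_maximalIdeal _).mpr hπ.not_isUnit) _ (by omega)
      rw [h1] at h2
      have h6 := sub_mem h2 h3
      rw [add_sub_cancel_right] at h6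
      exact (mem_maximalIdeal _).mp h6 (ha m₁ hm₁)
    obtain ⟨K₁, _, _, w, h1, h2, h3, h4⟩ := exists_ext_unit (K := K) hp hπ u hu m₁ (hT m₁ hm₁).1 (hT m₁ hm₁).2
    refine ⟨K₁, inferInstance, inferInstance, w, h1, h2, h3, ?_⟩
    rw [h4]
    congr 1
    show algebraMap A K (∑ m ∈ T, a m * π ^ (m₁ - m)) / _ = _
    rw [map_sum, Finset.sum_div]
    refine Finset.sum_congr rfl fun m hm => ?_
    have h5 := hmax m hm
    rw [map_mul, map_pow, div_eq_div_iff (pow_ne_zero _ hπ0) (pow_ne_zero _ hπ0), mul_assoc, ← pow_add,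
      Nat.sub_add_cancel h5]

end K362.ASExt
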