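import Groth.Agent.Etalg.RamBasic
import Groth.Agent.Etalg.RamDVR
import Mathlib.LinearAlgebra.Dimension.Finrank
import Mathlib.LinearAlgebra.FiniteDimensional.Lemmas

/-!
# A criterion for total ramification

If `[L : K] ≤ e` and `y ∈ L` has `v(y) ^ e = v(π)` for every valuation `v` of `L` dominating the discrete valuation ring
`A` with uniformizer `π`, then `L / K` is totally ramified with respect to `A`, of degree `e`.
-/

set_option autoImplicit false
universe u

namespace K362.TotRam

open IsLocalRing EtRam Groth.Agent.Etalg.RamBasic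

/-- If the nonzero terms of a sum have pairwise distinct values, each of them is bounded by the sum. -/
theorem le_sum_of_distinct {L Γ₀ ι : Type*} [Field L] [LinearOrderedCommGroupWithZero Γ₀] (v : Valuation L Γ₀)
    (s : Finset ι) (f : ι → L) (h : ∀ i ∈ s, ∀ j ∈ s, i ≠ j → f i ≠ 0 → v (f i) ≠ v (f j)) (i : ι) (hi : i ∈ s) :
    v (f i) ≤ v (∑ i ∈ s, f i) := by
  classical
  obtain ⟨j, hj, hmax⟩ := Finset.exists_max_image s (fun i => v (f i)) ⟨i, hi⟩
  rcases eq_or_ne (f j) 0 with h0 | h0
  · have := hmax i hi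
    rw [h0, map_zero] at this
    exact this.trans zero_le
  have h1 : v (∑ i ∈ s, f i) = v (f j) := by
    refine v.map_sum_eq_of_lt hj (fun k hk => ?_)
    rw [Finset.mem_sdiff, Finset.mem_singleton] at hk
    refine lt_of_le_of_ne (hmax k hk.1) fun heq => ?_
    exact h j hj k hk.1 (Ne.symm hk.2) h0 heq.symm
  rw [h1]
  exact hmax i hi

variable {A K L : Type u} [CommRing A] [IsDomain A] [IsDiscreteValuationRing A] [Field K] [Algebra A K]
  [IsFractionRing A K] [Field L] [Algebra K L]

/-- the exponent of an element of `K` is the same for all the valuations -/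
theorem exists_exponent {π : A} (hπ : Irreducible π) (c : K) (hc : c ≠ 0) :
    ∃ n : ℤ, ∀ V : ValuationSubring L, Dominates A ((algebraMap K L).comp (algebraMap A K)) V →
      V.valuation (algebraMap K L c) = V.valuation (algebraMap K L (algebraMap A K π)) ^ n := by
  obtain ⟨n, u, hn⟩ := IsDiscreteValuationRing.exists_units_eq_smul_zpow_of_irreducible hπ hc
  refine ⟨n, fun V hV => ?_⟩
  rw [hn, Units.smul_def, Algebra.smul_def, map_mul, map_mul, map_zpow₀, map_zpow₀]
  have := Groth.Agent.Etalg.RamDVR.valuation_eq_one_of_isUnit hV u.isUnit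
  simp only [RingHom.comp_apply] at this
  rw [this, one_mul]

omit [IsFractionRing A K] in
theorem valuation_uniformizer_lt {π : A} (hπ : Irreducible π) {V : ValuationSubring L}
    (hV : Dominates A ((algebraMap K L).comp (algebraMap A K)) V) :
    V.valuation (algebraMap K L (algebraMap A K π)) < 1 :=
  hV.2 π ((mem_maximalIdeal π).mpr hπ.not_isUnit)

omit [IsDomain A] [IsDiscreteValuationRing A] in
theorem valuation_uniformizer_pos {π : A} (hπ : Irreducible π) (V : ValuationSubring L) :
    0 < V.valuation (algebraMap K L (algebraMap A K π)) := by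
  rw [zero_lt_iff, Valuation.ne_zero_iff, Ne, map_eq_zero, map_eq_zero_iff _ (IsFractionRing.injective A K)]
  exact hπ.ne_zero

/-- elements of `K` of value at most one come from `A` -/
theorem exists_of_valuation_le_one {V : ValuationSubring L}
    (hV : Dominates A ((algebraMap K L).comp (algebraMap A K)) V) {c : K}
    (hc : V.valuation (algebraMap K L c) ≤ 1) : ∃ a : A, algebraMap A K a = c := by
  rw [dominates_comp_algebraMap_iff] at hV
  rw [ValuationSubring.valuation_le_one_iff, ← ValuationSubring.mem_comap, hV] at hc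
  exact hc

section Crit

variable {π : A} {e : ℕ} {y : L}

omit [IsDomain A] [IsDiscreteValuationRing A] in
theorem ne_zero_of_pow (hπ : Irreducible π) {V : ValuationSubring L} (he : e ≠ 0)
    (hy : V.valuation y ^ e = V.valuation (algebraMap K L (algebraMap A K π))) : y ≠ 0 := by
  rintro rfl
  rw [map_zero, zero_pow he] at hy
  exact (valuation_uniformizer_pos (K := K) hπ V).ne hy

omit [IsDomain A] [IsDiscreteValuationRing A] in
/-- The value of `c y ^ i`. -/
theorem pow_val {V : ValuationSubring L} (n : ℤ) (c : K) (hπ : Irreducible π)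
    (hc : V.valuation (algebraMap K L c) = V.valuation (algebraMap K L (algebraMap A K π)) ^ n)
    (hy : V.valuation y ^ e = V.valuation (algebraMap K L (algebraMap A K π))) (i : ℕ) :
    V.valuation (algebraMap K L c * y ^ i) ^ e =
      V.valuation (algebraMap K L (algebraMap A K π)) ^ (n * e + i) := by
  have h0 := (valuation_uniformizer_pos (K := K) hπ V).ne'
  rw [map_mul, mul_pow, map_pow, ← pow_mul, mul_comm i e, pow_mul, hy, hc, zpow_add₀ h0, zpow_mul, zpow_natCast,
    zpow_natCast]

theorem distinct (hπ : Irreducible π) {V : ValuationSubring L}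
    (hV : Dominates A ((algebraMap K L).comp (algebraMap A K)) V)
    (hy : V.valuation y ^ e = V.valuation (algebraMap K L (algebraMap A K π))) (c : Fin e → K)
    (i j : Fin e) (hij : i ≠ j) (h0 : algebraMap K L (c i) * y ^ (i : ℕ) ≠ 0) :
    V.valuation (algebraMap K L (c i) * y ^ (i : ℕ)) ≠ V.valuation (algebraMap K L (c j) * y ^ (j : ℕ)) := by
  intro heq
  have hci : c i ≠ 0 := by
    rintro h
    rw [h, map_zero, zero_mul] at h0
    exact h0 rfl
  have hcj : c j ≠ 0 := by
    rintro h
    rw [h, map_zero, zero_mul, map_zero, Valuation.zero_iff] at heq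
    exact h0 heq
  obtain ⟨n, hn⟩ := exists_exponent (L := L) hπ (c i) hci
  obtain ⟨m, hm⟩ := exists_exponent (L := L) hπ (c j) hcj
  have h1 := pow_val n (c i) hπ (hn V hV) hy i
  have h2 := pow_val m (c j) hπ (hm V hV) hy j
  rw [heq, h2] at h1
  have h3 := (zpow_right_strictAnti₀ (valuation_uniformizer_pos hπ V) (valuation_uniformizer_lt hπ hV)).injective h1
  apply hij
  apply Fin.ext
  have h4 : (e : ℤ) ∣ ((j : ℕ) : ℤ) - ((i : ℕ) : ℤ) := ⟨n - m, by linarith⟩
  have hi := i.2
  have hj := j.2
  have h5 := Int.eq_zero_of_abs_lt_dvd h4 (by rw [abs_lt]; constructor <;> omega)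
  omega

theorem linearIndependent (hπ : Irreducible π) {V : ValuationSubring L} (he : e ≠ 0)
    (hV : Dominates A ((algebraMap K L).comp (algebraMap A K)) V)
    (hy : V.valuation y ^ e = V.valuation (algebraMap K L (algebraMap A K π))) :
    LinearIndependent K (fun i : Fin e => y ^ (i : ℕ)) := by
  rw [Fintype.linearIndependent_iff]
  intro c hc i
  by_contra hci
  have hy0 : y ≠ 0 := ne_zero_of_pow hπ he hy
  have h1 := le_sum_of_distinct V.valuation Finset.univ (fun i : Fin e => algebraMap K L (c i) * y ^ (i : ℕ))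
    (fun i _ j _ hij h0 => distinct hπ hV hy c i j hij h0) i (Finset.mem_univ i)
  have h2 : ∑ i : Fin e, algebraMap K L (c i) * y ^ (i : ℕ) = 0 := by
    rw [← hc]
    exact Finset.sum_congr rfl fun i _ => (Algebra.smul_def _ _).symm
  rw [h2, map_zero, le_zero_iff, Valuation.zero_iff] at h1
  exact mul_ne_zero ((_root_.map_ne_zero _).mpr hci) (pow_ne_zero _ hy0) h1

/-- The criterion for total ramification. -/
theorem isTotallyRamified [FiniteDimensional K L] (hπ : Irreducible π) (he : e ≠ 0)
    (hdeg : Module.finrank K L ≤ e)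
    (hy : ∀ V : ValuationSubring L, Dominates A ((algebraMap K L).comp (algebraMap A K)) V →
      V.valuation y ^ e = V.valuation (algebraMap K L (algebraMap A K π))) :
    IsTotallyRamified A ((algebraMap K L).comp (algebraMap A K)) ∧ Module.finrank K L = e := by
  classical
  obtain ⟨V₀, hV₀⟩ := exists_dominates ((algebraMap K L).comp (algebraMap A K))
  have hli := linearIndependent hπ he hV₀ (hy V₀ hV₀)
  have hfr : Module.finrank K L = e := by
    refine le_antisymm hdeg ?_
    have := hli.fintype_card_le_finrank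
    rwa [Fintype.card_fin] at this
  have hne : Nonempty (Fin e) := ⟨⟨0, Nat.pos_of_ne_zero he⟩⟩
  let b := basisOfLinearIndependentOfCardEqFinrank hli (by rw [Fintype.card_fin, hfr])
  have hb : ∀ x : L, ∃ c : Fin e → K, x = ∑ i : Fin e, algebraMap K L (c i) * y ^ (i : ℕ) := by
    intro x
    refine ⟨fun i => b.repr x i, ?_⟩
    conv_lhs => rw [← b.sum_repr x]
    refine Finset.sum_congr rfl fun i _ => ?_
    rw [Algebra.smul_def, coe_basisOfLinearIndependentOfCardEqFinrank]
  -- the key estimate
  have hle : ∀ V : ValuationSubring L, Dominates A ((algebraMap K L).comp (algebraMap A K)) V →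
      ∀ (c : Fin e → K), ∑ i : Fin e, algebraMap K L (c i) * y ^ (i : ℕ) ∈ V → ∀ i,
        V.valuation (algebraMap K L (c i) * y ^ (i : ℕ)) ≤ 1 := by
    intro V hV c hc i
    rw [← ValuationSubring.valuation_le_one_iff] at hc
    refine le_trans ?_ hc
    exact le_sum_of_distinct V.valuation Finset.univ (fun i : Fin e => algebraMap K L (c i) * y ^ (i : ℕ))
      (fun i _ j _ hij h0 => distinct hπ hV (hy V hV) c i j hij h0) i (Finset.mem_univ i)
  have hexp : ∀ V : ValuationSubring L, Dominates A ((algebraMap K L).comp (algebraMap A K)) V →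
      ∀ (n : ℤ), V.valuation (algebraMap K L (algebraMap A K π)) ^ n ≤ 1 ↔ 0 ≤ n := by
    intro V hV n
    have hanti := zpow_right_strictAnti₀ (valuation_uniformizer_pos hπ V) (valuation_uniformizer_lt hπ hV)
    rw [← zpow_zero (V.valuation (algebraMap K L (algebraMap A K π)))]
    exact hanti.le_iff_ge
  have htrans : ∀ V V' : ValuationSubring L, Dominates A ((algebraMap K L).comp (algebraMap A K)) V →
      Dominates A ((algebraMap K L).comp (algebraMap A K)) V' → V ≤ V' := by
    intro V V' hV hV' x hx
    obtain ⟨c, rfl⟩ := hb x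
    refine V'.toSubring.sum_mem fun i _ => ?_
    show _ ∈ V'
    rw [← ValuationSubring.valuation_le_one_iff]
    rcases eq_or_ne (c i) 0 with h0 | h0
    · rw [h0, map_zero, zero_mul, map_zero]; exact zero_le
    have h1 := hle V hV c hx i
    obtain ⟨n, hn⟩ := exists_exponent (L := L) hπ (c i) h0
    have h2 := pow_val n (c i) hπ (hn V hV) (hy V hV) i
    have h3 := pow_val n (c i) hπ (hn V' hV') (hy V' hV') i
    rw [← pow_le_one_iff he, h3, hexp V' hV']
    rw [← pow_le_one_iff he, h2, hexp V hV] at h1
    exact h1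
  refine ⟨⟨⟨V₀, hV₀⟩, fun V V' hV hV' => le_antisymm (htrans V V' hV hV') (htrans V' V hV' hV), ?_⟩, hfr⟩
  intro V hV z
  obtain ⟨⟨x, hx⟩, rfl⟩ := residue_surjective z
  obtain ⟨c, hc⟩ := hb x
  have h1 := hle V hV c (hc ▸ hx)
  have i₀ : Fin e := ⟨0, Nat.pos_of_ne_zero he⟩
  have h2 : V.valuation (algebraMap K L (c ⟨0, Nat.pos_of_ne_zero he⟩)) ≤ 1 := by
    have := h1 ⟨0, Nat.pos_of_ne_zero he⟩
    rwa [pow_zero, mul_one] at this
  obtain ⟨a, ha⟩ := exists_of_valuation_le_one hV h2
  refine ⟨a, ?_⟩
  show residue V _ = residue V _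
  rw [← sub_eq_zero, ← map_sub, residue_eq_zero_iff, ValuationSubring.valuation_lt_one_iff]
  show V.valuation (algebraMap K L (algebraMap A K a) - x) < 1
  rw [Valuation.map_sub_swap, ha, hc, ← Finset.add_sum_erase _ _ (Finset.mem_univ ⟨0, Nat.pos_of_ne_zero he⟩)]
  simp only [pow_zero, mul_one, add_sub_cancel_left]
  refine Valuation.map_sum_lt _ one_ne_zero fun i hi => ?_
  rw [Finset.mem_erase] at hi
  refine lt_of_le_of_ne (h1 i) fun heq => ?_
  rcases eq_or_ne (c i) 0 with h0 | h0
  · rw [h0, map_zero, zero_mul, map_zero] at heq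
    exact zero_ne_one heq
  obtain ⟨n, hn⟩ := exists_exponent (L := L) hπ (c i) h0
  have h4 := pow_val n (c i) hπ (hn V hV) (hy V hV) i
  rw [heq, one_pow] at h4
  have h5 := (zpow_right_strictAnti₀ (valuation_uniformizer_pos hπ V) (valuation_uniformizer_lt hπ hV)).injective
    (h4.symm.trans (zpow_zero _).symm)
  have h6 : (e : ℤ) ∣ ((i : ℕ) : ℤ) := ⟨-n, by linarith⟩
  have h7 := Int.eq_zero_of_abs_lt_dvd h6 (by rw [abs_lt]; have := i.2; constructor <;> omega)
  exact hi.1 (Fin.ext (by simpa using h7))

end Crit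

end K362.TotRam
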