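import Groth.Agent.EtAlg.K362.SolUp
import Groth.Agent.Etalg.RamWeak
import Groth.Agent.EtAlg.K362.TotRam
import Groth.Agent.EtAlg.K363.ResGen
import Mathlib.FieldTheory.IntermediateField.Adjoin.Algebra

/-!
# Composita: the step from `B` to `C`

`K ⊆ L ⊆ M` fields, `K₁/K` finite, `M'` a compositum of `M` and `K₁`, `L₁ = L K₁ ⊆ M'`.
-/

set_option autoImplicit false
universe u

namespace K362.Stage

open Groth.Agent.Etalg.RamBasic IsLocalRing EtRam IntermediateField

section Fields

variable {K L M K₁ M' : Type u} [Field K] [Field L] [Field M] [Field K₁] [Field M']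
  [Algebra K L] [Algebra L M] [Algebra K K₁] [Algebra K M'] [Algebra L M'] [Algebra M M'] [Algebra K₁ M']
  [IsScalarTower K L M'] [IsScalarTower L M M'] [IsScalarTower K K₁ M']

theorem adjoin_top (hadj : Algebra.adjoin M (Set.range (algebraMap K₁ M')) = ⊤) (c : M)
    (hc : Algebra.adjoin L {c} = ⊤) :
    Algebra.adjoin (adjoin L (Set.range (algebraMap K₁ M'))) {algebraMap M M' c} = ⊤ := by
  rw [eq_top_iff]
  intro x _
  have hx : x ∈ Algebra.adjoin M (Set.range (algebraMap K₁ M')) := by rw [hadj]; trivial
  induction hx using Algebra.adjoin_induction with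
  | mem y hy => exact Subalgebra.algebraMap_mem _ (⟨y, subset_adjoin _ _ hy⟩ : adjoin L (Set.range (algebraMap K₁ M')))
  | algebraMap m =>
    have hm : m ∈ Algebra.adjoin L {c} := by rw [hc]; trivial
    induction hm using Algebra.adjoin_induction with
    | mem y hy =>
      rw [Set.mem_singleton_iff.mp hy]
      exact Algebra.subset_adjoin rfl
    | algebraMap r =>
      rw [← IsScalarTower.algebraMap_apply]
      exact Subalgebra.algebraMap_mem _ (⟨algebraMap L M' r,
        IntermediateField.algebraMap_mem _ _⟩ : adjoin L (Set.range (algebraMap K₁ M')))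
    | add x y _ _ hx hy => rw [map_add]; exact add_mem (hx trivial) (hy trivial)
    | mul x y _ _ hx hy => rw [map_mul]; exact mul_mem (hx trivial) (hy trivial)
  | add x y _ _ hx hy => exact add_mem (hx trivial) (hy trivial)
  | mul x y _ _ hx hy => exact mul_mem (hx trivial) (hy trivial)

theorem finite_top (hadj : Algebra.adjoin M (Set.range (algebraMap K₁ M')) = ⊤) (c : M)
    (hc : Algebra.adjoin L {c} = ⊤) (F : Polynomial L) (hF : F.Monic) (hcF : Polynomial.aeval c F = 0) :
    FiniteDimensional (adjoin L (Set.range (algebraMap K₁ M'))) M' ∧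
      Module.finrank (adjoin L (Set.range (algebraMap K₁ M'))) M' ≤ F.natDegree := by
  let L₁ := adjoin L (Set.range (algebraMap K₁ M'))
  have h1 := adjoin_top hadj c hc
  have h2 : Polynomial.aeval (algebraMap M M' c) (F.map (algebraMap L L₁)) = 0 := by
    rw [Polynomial.aeval_map_algebraMap, Polynomial.aeval_algebraMap_apply, hcF, map_zero]
  have hF' : (F.map (algebraMap L L₁)).Monic := hF.map _
  have hint : IsIntegral L₁ (algebraMap M M' c) := ⟨_, hF', h2⟩
  have h3 : adjoin L₁ {algebraMap M M' c} = ⊤ := by
    rw [eq_top_iff]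
    intro x _
    have hx : x ∈ Algebra.adjoin L₁ {algebraMap M M' c} := by rw [h1]; trivial
    exact algebra_adjoin_le_adjoin L₁ _ hx
  have h4 : FiniteDimensional L₁ (adjoin L₁ {algebraMap M M' c}) := adjoin.finiteDimensional hint
  have e : adjoin L₁ {algebraMap M M' c} ≃ₐ[L₁] M' := (equivOfEq h3).trans topEquiv
  refine ⟨Module.Finite.equiv e.toLinearEquiv, ?_⟩
  rw [← e.toLinearEquiv.finrank_eq, adjoin.finrank hint]
  have h5 : (minpoly L₁ (algebraMap M M' c)).natDegree ≤ (F.map (algebraMap L L₁)).natDegree :=
    Polynomial.natDegree_le_of_dvd (minpoly.dvd _ _ h2) hF'.ne_zero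
  exact h5.trans (Polynomial.natDegree_map_le)

theorem finrank_le_stage [FiniteDimensional K K₁] :
    Module.finrank L (adjoin L (Set.range (algebraMap K₁ M'))) ≤ Module.finrank K K₁ := by
  let L₁ := adjoin L (Set.range (algebraMap K₁ M'))
  have hfin : FiniteDimensional L L₁ := K362.SolUp.finite_stage (K := K)
  let b := Module.finBasis K K₁
  have hspan : Submodule.span L (Set.range fun i => algebraMap K₁ M' (b i)) = L₁.toSubalgebra.toSubmodule := by
    have halg : ∀ x ∈ Set.range (algebraMap K₁ M'), IsAlgebraic L x := by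
      rintro _ ⟨x, rfl⟩
      have h1 : IsAlgebraic K x := Algebra.IsAlgebraic.isAlgebraic x
      exact (h1.algebraMap (A := M')).tower_top L
    rw [show L₁.toSubalgebra = Algebra.adjoin L (Set.range (algebraMap K₁ M')) from
      adjoin_toSubalgebra_of_isAlgebraic halg]
    -- the span of the image of `K₁`
    have hK₁ : ∀ x : K₁, algebraMap K₁ M' x ∈ Submodule.span L (Set.range fun i => algebraMap K₁ M' (b i)) := by
      intro x
      rw [← b.sum_repr x, map_sum]
      refine Submodule.sum_mem _ fun i _ => ?_
      rw [Algebra.smul_def, map_mul, ← IsScalarTower.algebraMap_apply, IsScalarTower.algebraMap_apply K L M',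
        ← Algebra.smul_def]
      exact Submodule.smul_mem _ _ (Submodule.subset_span ⟨i, rfl⟩)
    have hmul : ∀ x ∈ Submodule.span L (Set.range fun i => algebraMap K₁ M' (b i)),
        ∀ y ∈ Submodule.span L (Set.range fun i => algebraMap K₁ M' (b i)),
        x * y ∈ Submodule.span L (Set.range fun i => algebraMap K₁ M' (b i)) := by
      intro x hx y hy
      induction hx using Submodule.span_induction with
      | mem x hx =>
        obtain ⟨i, rfl⟩ := hx
        induction hy using Submodule.span_induction with
        | mem y hy =>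
          obtain ⟨j, rfl⟩ := hy
          rw [← map_mul]
          exact hK₁ _
        | zero => rw [mul_zero]; exact zero_mem _
        | add y z _ _ hy hz => rw [mul_add]; exact add_mem hy hz
        | smul r y _ hy => rw [mul_smul_comm]; exact Submodule.smul_mem _ _ hy
      | zero => rw [zero_mul]; exact zero_mem _
      | add x z _ _ hx hz => rw [add_mul]; exact add_mem hx hz
      | smul r x _ hx => rw [smul_mul_assoc]; exact Submodule.smul_mem _ _ hx
    apply le_antisymm
    · rw [Submodule.span_le]
      rintro _ ⟨i, rfl⟩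
      exact Algebra.subset_adjoin ⟨_, rfl⟩
    · intro x hx
      have hx' : x ∈ Algebra.adjoin L (Set.range (algebraMap K₁ M')) := hx
      induction hx' using Algebra.adjoin_induction with
      | mem y hy =>
        obtain ⟨z, rfl⟩ := hy
        exact hK₁ z
      | algebraMap r =>
        have h1 := hK₁ 1
        rw [map_one] at h1
        rw [Algebra.algebraMap_eq_smul_one]
        exact Submodule.smul_mem _ _ h1
      | add y z hy' hz' hy hz => exact add_mem (hy hy') (hz hz')
      | mul y z hy' hz' hy hz => exact hmul _ (hy hy') _ (hz hz')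
  have h1 : Module.finrank L L₁ = Module.finrank L L₁.toSubalgebra.toSubmodule := rfl
  rw [h1, ← hspan]
  refine (finrank_range_le_card _).trans ?_
  rw [Fintype.card_fin]

end Fields

section Solution

/-- To check that `K₁` is a weak solution for `A → C`, when it is one for `A → B`, it suffices to check that
`W ∩ L₁ → W` is weakly unramified. -/
theorem isWeakSolution_of_step {B C K L M K₁ : Type u} [CommRing B] [IsDomain B] [IsDiscreteValuationRing B]
    [CommRing C] [IsDomain C] [IsDiscreteValuationRing C] [Algebra B C] [IsLocalHom (algebraMap B C)]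
    [Field K] [Field L] [Field M] [Field K₁] [Algebra K L] [Algebra L M] [Algebra K M] [IsScalarTower K L M]
    [Algebra B L] [IsFractionRing B L] [Algebra C M] [IsFractionRing C M] [Algebra B M] [IsScalarTower B L M]
    [IsScalarTower B C M] [Algebra K K₁] [FiniteDimensional K K₁]
    (hB : IsWeakSolution B K L K₁)
    (h : ∀ (M' : Type u) [Field M'] [Algebra K M'] [Algebra L M'] [Algebra M M'] [Algebra K₁ M']
      [IsScalarTower K L M'] [IsScalarTower L M M'] [IsScalarTower K M M'] [IsScalarTower K K₁ M'],
      Algebra.adjoin M (Set.range (algebraMap K₁ M')) = ⊤ →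
      ∀ (W : ValuationSubring M'), Dominates C ((algebraMap M M').comp (algebraMap C M)) W →
        Dominates B ((algebraMap L M').comp (algebraMap B L)) W →
        letI : Algebra (W.comap (algebraMap (adjoin L (Set.range (algebraMap K₁ M'))) M')) W :=
          (inclOfComap W (algebraMap (adjoin L (Set.range (algebraMap K₁ M'))) M')).toAlgebra
        IsWeaklyUnramified (W.comap (algebraMap (adjoin L (Set.range (algebraMap K₁ M'))) M')) W) :
    IsWeakSolution C K M K₁ := by
  intro M' _ _ _ _ _ _ hadj W hW
  let i1 : Algebra L M' := ((algebraMap M M').comp (algebraMap L M)).toAlgebra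
  have t1 : IsScalarTower L M M' := IsScalarTower.of_algebraMap_eq' rfl
  have t2 : IsScalarTower K L M' := IsScalarTower.of_algebraMap_eq fun x => by
    rw [IsScalarTower.algebraMap_apply L M M', ← IsScalarTower.algebraMap_apply K L M,
      ← IsScalarTower.algebraMap_apply K M M']
  have hWB : Dominates B ((algebraMap L M').comp (algebraMap B L)) W := by
    have h1 : (algebraMap L M').comp (algebraMap B L) =
        ((algebraMap M M').comp (algebraMap C M)).comp (algebraMap B C) := by
      ext x
      show algebraMap L M' (algebraMap B L x) = algebraMap M M' (algebraMap C M (algebraMap B C x))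
      rw [← IsScalarTower.algebraMap_apply B C M, IsScalarTower.algebraMap_apply B L M,
        ← IsScalarTower.algebraMap_apply L M M']
    rw [h1]
    refine ⟨fun a => hW.1 _, fun a ha => hW.2 _ ?_⟩
    exact (((local_hom_TFAE (algebraMap B C)).out 0 2 rfl rfl).mp ‹_›) (Ideal.mem_map_of_mem _ ha)
  have h2 := h M' hadj W hW hWB
  let L₁ := adjoin L (Set.range (algebraMap K₁ M'))
  let f : K₁ →+* L₁ := (algebraMap K₁ M').codRestrict L₁ (fun x => subset_adjoin _ _ ⟨x, rfl⟩)
  let i2 : Algebra K₁ L₁ := f.toAlgebra
  have t3 : IsScalarTower K₁ L₁ M' := IsScalarTower.of_algebraMap_eq fun x => rfl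
  have t4 : IsScalarTower K K₁ L₁ := IsScalarTower.of_algebraMap_eq fun x => Subtype.ext (by
    show algebraMap K M' x = algebraMap K₁ M' (algebraMap K K₁ x)
    rw [← IsScalarTower.algebraMap_apply])
  have hadj₁ : Algebra.adjoin L (Set.range (algebraMap K₁ L₁)) = ⊤ :=
    K362.SolUp.adjoin_stage (K := K) f (fun x => rfl)
  have hW₁ : Dominates B ((algebraMap L L₁).comp (algebraMap B L)) (W.comap (algebraMap L₁ M')) := by
    rw [← dominates_comp_iff]
    exact hWB
  have h3 := hB L₁ hadj₁ (W.comap (algebraMap L₁ M')) hW₁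
  exact Groth.Agent.Etalg.RamWeak.isWeaklyUnramified_comp W f (algebraMap L₁ M') h3 h2

end Solution

section TotRam

variable {A B K L K₁ M' : Type u} [CommRing A] [IsDomain A] [IsDiscreteValuationRing A]
  [CommRing B] [IsDomain B] [IsDiscreteValuationRing B] [Algebra A B] [IsLocalHom (algebraMap A B)]
  [Field K] [Field L] [Field K₁] [Field M'] [Algebra A K] [IsFractionRing A K] [Algebra B L] [IsFractionRing B L]
  [Algebra K L] [Algebra A L] [IsScalarTower A K L] [IsScalarTower A B L]
  [Algebra K K₁] [FiniteDimensional K K₁] [Algebra K M'] [Algebra L M'] [Algebra K₁ M']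
  [IsScalarTower K L M'] [IsScalarTower K K₁ M']

omit [IsFractionRing A K] [IsFractionRing B L] in
/-- domination of `A` from domination of `B` -/
theorem dominates_down {F : Type u} [Field F] (g : L →+* F) (V : ValuationSubring F)
    (hV : Dominates B (g.comp (algebraMap B L)) V) (k : K →+* F) (hk : ∀ x, g (algebraMap K L x) = k x) :
    Dominates A (k.comp (algebraMap A K)) V := by
  have h1 : k.comp (algebraMap A K) = (g.comp (algebraMap B L)).comp (algebraMap A B) := by
    ext x
    show k (algebraMap A K x) = g (algebraMap B L (algebraMap A B x))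
    rw [← IsScalarTower.algebraMap_apply A B L, IsScalarTower.algebraMap_apply A K L, hk]
  rw [h1]
  refine ⟨fun a => hV.1 _, fun a ha => hV.2 _ ?_⟩
  exact (((local_hom_TFAE (algebraMap A B)).out 0 2 rfl rfl).mp ‹_›) (Ideal.mem_map_of_mem _ ha)

/-- `L K₁ / L` is totally ramified with respect to `B`. -/
theorem isTotallyRamified_stage {π : A} (hπB : Irreducible (algebraMap A B π)) (ϖ : K₁)
    (hϖ : ∀ V : ValuationSubring K₁, Dominates A ((algebraMap K K₁).comp (algebraMap A K)) V →
      V.valuation ϖ ^ (Module.finrank K K₁) = V.valuation (algebraMap K K₁ (algebraMap A K π))) :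
    IsTotallyRamified B ((algebraMap L (adjoin L (Set.range (algebraMap K₁ M')))).comp (algebraMap B L)) := by
  let L₁ := adjoin L (Set.range (algebraMap K₁ M'))
  have hfin : FiniteDimensional L L₁ := K362.SolUp.finite_stage (K := K)
  let f : K₁ →+* L₁ := (algebraMap K₁ M').codRestrict L₁ (fun x => subset_adjoin _ _ ⟨x, rfl⟩)
  have hfK : ∀ x : K, f (algebraMap K K₁ x) = algebraMap L L₁ (algebraMap K L x) := by
    intro x
    apply Subtype.ext
    show algebraMap K₁ M' (algebraMap K K₁ x) = algebraMap L M' (algebraMap K L x)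
    rw [← IsScalarTower.algebraMap_apply, ← IsScalarTower.algebraMap_apply]
  refine (K362.TotRam.isTotallyRamified (A := B) (K := L) (L := L₁) (π := algebraMap A B π) (y := f ϖ)
    (e := Module.finrank K K₁) hπB Module.finrank_pos.ne' finrank_le_stage ?_).1
  intro V hV
  have h1 : Dominates A ((f.comp (algebraMap K K₁)).comp (algebraMap A K)) V := by
    refine dominates_down (B := B) (algebraMap L L₁) V hV (f.comp (algebraMap K K₁)) fun x => ?_
    rw [RingHom.comp_apply, hfK]
  rw [RingHom.comp_assoc, dominates_comp_iff] at h1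
  have h2 := hϖ (V.comap f) h1
  rw [← map_pow, valuation_comap_eq_iff, map_pow, map_pow, hfK] at h2
  rw [h2, ← IsScalarTower.algebraMap_apply A K L, IsScalarTower.algebraMap_apply A B L]

omit [IsFractionRing B L] in
/-- residues of elements of `W ∩ L₁` come from `B` -/
theorem exists_residue (ht : IsTotallyRamified B
      ((algebraMap L (adjoin L (Set.range (algebraMap K₁ M')))).comp (algebraMap B L)))
    (W : ValuationSubring M') (hW : Dominates B ((algebraMap L M').comp (algebraMap B L)) W)
    (x : M') (hx : x ∈ adjoin L (Set.range (algebraMap K₁ M'))) (hxW : x ∈ W) :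
    ∃ r : B, W.valuation (x - algebraMap L M' (algebraMap B L r)) < 1 := by
  let L₁ := adjoin L (Set.range (algebraMap K₁ M'))
  have hW₁ : Dominates B ((algebraMap L L₁).comp (algebraMap B L)) (W.comap (algebraMap L₁ M')) := by
    rw [← dominates_comp_iff]
    exact hW
  obtain ⟨r, hr⟩ := ht.2.2 _ hW₁ (residue _ (⟨⟨x, hx⟩, hxW⟩ : W.comap (algebraMap L₁ M')))
  refine ⟨r, ?_⟩
  rw [← sub_eq_zero, ← map_sub, residue_eq_zero_iff, ValuationSubring.valuation_lt_one_iff,
    valuation_comap_lt_one_iff] at hr
  rw [Valuation.map_sub_swap]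
  exact hr

end TotRam

section Fierce

/-- The fierce step: `M'/L₁` of degree at most `p`, `z ^ p ≡ a` with `a` not a `p`-th power residually. -/
theorem fierce_step {L₁ M' : Type u} [Field L₁] [Field M'] [Algebra L₁ M'] [FiniteDimensional L₁ M']
    {p : ℕ} (hp : p.Prime) (hdeg : Module.finrank L₁ M' ≤ p) (W : ValuationSubring M')
    [IsDiscreteValuationRing (W.comap (algebraMap L₁ M'))]
    [CharP (ResidueField (W.comap (algebraMap L₁ M'))) p]
    (a : L₁) (haW : algebraMap L₁ M' a ∈ W)
    (ha : ∀ r : L₁, algebraMap L₁ M' r ∈ W → W.valuation (algebraMap L₁ M' a - algebraMap L₁ M' r ^ p) = 1)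
    (z : M') (hz : ∀ V : ValuationSubring M', V.comap (algebraMap L₁ M') = W.comap (algebraMap L₁ M') →
      V.valuation (z ^ p - algebraMap L₁ M' a) < 1) :
    letI : Algebra (W.comap (algebraMap L₁ M')) W := (inclOfComap W (algebraMap L₁ M')).toAlgebra
    IsWeaklyUnramified (W.comap (algebraMap L₁ M')) W := by
  let B₁ := W.comap (algebraMap L₁ M')
  let i1 : Algebra B₁ M' := ((algebraMap L₁ M').comp (algebraMap B₁ L₁)).toAlgebra
  have t1 : IsScalarTower B₁ L₁ M' := IsScalarTower.of_algebraMap_eq' rfl
  obtain ⟨π, hπ⟩ := IsDiscreteValuationRing.exists_irreducible B₁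
  have hdomiff : ∀ V : ValuationSubring M', Dominates B₁ (algebraMap B₁ M') V ↔ V.comap (algebraMap L₁ M') = B₁ :=
    fun V => dominates_comp_subtype_iff (algebraMap L₁ M') B₁ V
  obtain ⟨-, -, h⟩ := K363.RamCases.insep (A := B₁) (K := L₁) (L := M') hp hπ.maximalIdeal_eq hdeg ⟨a, haW⟩ (by
    intro r hr
    have h1 := ha r r.2
    rw [← map_pow, ← sub_eq_zero, ← map_sub, residue_eq_zero_iff, ValuationSubring.valuation_lt_one_iff,
      valuation_comap_lt_one_iff] at hr
    rw [← map_pow, ← map_sub] at h1
    exact (h1 ▸ hr.ne) rfl) z (by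
    intro V hV
    exact hz V ((hdomiff V).mp hV))
  have hdomW : Dominates B₁ (algebraMap B₁ M') W := (hdomiff W).mpr rfl
  let j : Algebra B₁ W := (RingHom.codRestrict (algebraMap B₁ M') W hdomW.1).toAlgebra
  have hl : IsLocalHom (algebraMap B₁ W) := Groth.Agent.Etalg.RamBasic.Dominates.isLocalHom hdomW
  exact (h W hdomW).1

end Fierce

end K362.Stage
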