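import Groth.Agent.EtAlg.K362.ASRel
import Groth.Agent.EtAlg.K362.Stage
import Groth.Agent.EtAlg.K362.NiceExt
import Groth.Agent.EtAlg.K363.UnrExt

/-!
# Artin–Schreier extensions: the fierce case and the unramified case
-/

set_option autoImplicit false
universe u

namespace K362.ASFierce

open IsLocalRing EtRam Groth.Agent.Etalg.RamBasic IntermediateField

/-- the fierce case -/
theorem fierce_core {L₁ M' : Type u} [Field L₁] [Field M'] [Algebra L₁ M'] [FiniteDimensional L₁ M']
    {p : ℕ} (hp : p.Prime) [CharP M' p] (hdeg : Module.finrank L₁ M' ≤ p) (W : ValuationSubring M')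
    [IsDiscreteValuationRing (W.comap (algebraMap L₁ M'))]
    [CharP (ResidueField (W.comap (algebraMap L₁ M'))) p]
    (a : L₁) (haW : a ∈ W.comap (algebraMap L₁ M'))
    (ha : ∀ r : L₁, algebraMap L₁ M' r ∈ W → W.valuation (algebraMap L₁ M' a - algebraMap L₁ M' r ^ p) = 1)
    (ϖ : L₁) (hϖ : (W.comap (algebraMap L₁ M')).valuation ϖ < 1) (E : ℕ) (hE : E ≠ 0)
    (ξ : L₁) (z : M') (hz : z ^ p - z = algebraMap L₁ M' ξ) (η : L₁)
    (hη : (W.comap (algebraMap L₁ M')).valuation ((ξ - (η ^ p - η)) * ϖ ^ (p * E) - a) < 1) :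
    letI : Algebra (W.comap (algebraMap L₁ M')) W := (inclOfComap W (algebraMap L₁ M')).toAlgebra
    IsWeaklyUnramified (W.comap (algebraMap L₁ M')) W := by
  have hexp : ExpChar M' p := ExpChar.prime hp
  refine K362.Stage.fierce_step hp hdeg W a haW ha (algebraMap L₁ M' ϖ ^ E * (z - algebraMap L₁ M' η)) ?_
  intro V hV
  rw [← hV] at haW hϖ hη
  rw [valuation_comap_lt_one_iff] at hϖ hη
  have haV : V.valuation (algebraMap L₁ M' a) ≤ 1 := (V.valuation_le_one_iff _).mpr haW
  set α : M' := algebraMap L₁ M' ((ξ - (η ^ p - η)) * ϖ ^ (p * E)) with hα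
  set y : M' := algebraMap L₁ M' ϖ ^ E * (z - algebraMap L₁ M' η) with hy
  rw [map_sub, ← hα] at hη
  have hα1 : V.valuation α ≤ 1 := by
    have h1 : α = (α - algebraMap L₁ M' a) + algebraMap L₁ M' a := by ring
    rw [h1]
    exact (V.valuation.map_add _ _).trans (max_le hη.le haV)
  have hyp : y ^ p = algebraMap L₁ M' ϖ ^ ((p - 1) * E) * y + α := by
    have h1 : (z - algebraMap L₁ M' η) ^ p = (z - algebraMap L₁ M' η) + algebraMap L₁ M' (ξ - (η ^ p - η)) := by
      rw [sub_pow_expChar, map_sub, map_sub, map_pow, ← hz]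
      ring
    rw [hy, mul_pow, h1, hα, map_mul, map_pow, ← pow_mul, mul_comm E p, ← mul_assoc, ← pow_add]
    have h2 : (p - 1) * E + E = p * E := by
      obtain ⟨k, hk⟩ := Nat.exists_eq_succ_of_ne_zero hp.ne_zero
      rw [hk, Nat.succ_eq_add_one, Nat.add_sub_cancel]
      ring
    rw [h2]
    ring
  have hE' : (p - 1) * E ≠ 0 := by
    have := hp.one_lt
    exact Nat.mul_ne_zero (by omega) hE
  have hϖ' : V.valuation (algebraMap L₁ M' ϖ ^ ((p - 1) * E)) < 1 := by
    rw [map_pow]
    exact pow_lt_one₀ zero_le hϖ hE'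
  have hy1 : V.valuation y ≤ 1 := by
    by_contra hcon
    push Not at hcon
    have h1 : V.valuation y ^ p ≤ V.valuation y := by
      rw [← map_pow, hyp]
      refine (V.valuation.map_add _ _).trans (max_le ?_ (hα1.trans hcon.le))
      rw [map_mul]
      calc _ ≤ 1 * V.valuation y := mul_le_mul_left hϖ'.le _
        _ = _ := one_mul _
    have h2 : V.valuation y ^ 1 < V.valuation y ^ p := pow_lt_pow_right₀ hcon hp.one_lt
    rw [pow_one] at h2
    exact absurd h1 (not_le.mpr h2)
  rw [hyp, add_sub_assoc]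
  refine lt_of_le_of_lt (V.valuation.map_add _ _) (max_lt ?_ hη)
  rw [map_mul]
  calc _ ≤ V.valuation (algebraMap L₁ M' ϖ ^ ((p - 1) * E)) * 1 := mul_le_mul_right hy1 _
    _ < 1 := by rwa [mul_one]

/-- the unramified case -/
theorem unr_core {L₁ M' : Type u} [Field L₁] [Field M'] [Algebra L₁ M'] [FiniteDimensional L₁ M']
    {p : ℕ} (hp : p.Prime) [CharP L₁ p] (W : ValuationSubring M')
    [IsDiscreteValuationRing (W.comap (algebraMap L₁ M'))]
    (s : L₁) (hs : s ∈ W.comap (algebraMap L₁ M')) (z : M') (hz : z ^ p - z = algebraMap L₁ M' s)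
    (hadj : Algebra.adjoin L₁ {z} = ⊤) :
    letI : Algebra (W.comap (algebraMap L₁ M')) W := (inclOfComap W (algebraMap L₁ M')).toAlgebra
    IsWeaklyUnramified (W.comap (algebraMap L₁ M')) W := by
  let B₁ := W.comap (algebraMap L₁ M')
  let i1 : Algebra B₁ M' := ((algebraMap L₁ M').comp (algebraMap B₁ L₁)).toAlgebra
  have t1 : IsScalarTower B₁ L₁ M' := IsScalarTower.of_algebraMap_eq' rfl
  have hch : CharP B₁ p := (algebraMap B₁ L₁).charP (IsFractionRing.injective B₁ L₁) p
  let F : Polynomial B₁ := Polynomial.X ^ p - (Polynomial.X + Polynomial.C ⟨s, hs⟩)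
  have hdeg : (Polynomial.X + Polynomial.C (⟨s, hs⟩ : B₁)).degree < (p : WithBot ℕ) := by
    rw [Polynomial.degree_X_add_C]
    exact_mod_cast hp.one_lt
  have hF : F.Monic := Polynomial.monic_X_pow_sub hdeg
  have hzF : Polynomial.aeval z F = 0 := by
    show Polynomial.aeval z (Polynomial.X ^ p - (Polynomial.X + Polynomial.C (⟨s, hs⟩ : B₁))) = 0
    rw [map_sub, map_pow, map_add, Polynomial.aeval_X, Polynomial.aeval_C]
    have h1 : algebraMap B₁ M' ⟨s, hs⟩ = algebraMap L₁ M' s := rfl
    rw [h1, ← hz]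
    ring
  have hd : F.derivative = -1 := by
    show (Polynomial.X ^ p - (Polynomial.X + Polynomial.C (⟨s, hs⟩ : B₁))).derivative = -1
    rw [Polynomial.derivative_sub, Polynomial.derivative_X_pow, Polynomial.derivative_add, Polynomial.derivative_X,
      Polynomial.derivative_C, CharP.cast_eq_zero, Polynomial.C_0, zero_mul, add_zero, zero_sub]
  have hsepF : (F.map (algebraMap B₁ L₁)).Separable := by
    rw [Polynomial.Separable, Polynomial.derivative_map, hd, Polynomial.map_neg, Polynomial.map_one]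
    exact ⟨0, -1, by ring⟩
  have hsep : Algebra.IsSeparable L₁ M' := by
    refine K362.NiceExt.isSeparable_of_adjoin {z} ?_ hadj
    intro x hx
    rw [Set.mem_singleton_iff.mp hx]
    have h2 : Polynomial.aeval z (F.map (algebraMap B₁ L₁)) = 0 := by
      rw [Polynomial.aeval_map_algebraMap]
      exact hzF
    exact hsepF.of_dvd (minpoly.dvd L₁ z h2)
  have hunr := K363.RamCases.unrExt (A := B₁) (K := L₁) F hF z hzF hadj (by
    intro V hV
    rw [hd, map_neg, map_one, Valuation.map_neg, map_one])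
  have hdomW : Dominates B₁ (algebraMap B₁ M') W :=
    (dominates_comp_subtype_iff (algebraMap L₁ M') B₁ W).mpr rfl
  let j : Algebra B₁ W := (RingHom.codRestrict (algebraMap B₁ M') W hdomW.1).toAlgebra
  have hl : IsLocalHom (algebraMap B₁ W) := Groth.Agent.Etalg.RamBasic.Dominates.isLocalHom hdomW
  exact (hunr W hdomW).1

section Cases

variable {A B C K L M K₁ : Type u}
    [CommRing A] [IsDomain A] [IsDiscreteValuationRing A] [CommRing B] [IsDomain B] [IsDiscreteValuationRing B]
    [CommRing C] [IsDomain C] [IsDiscreteValuationRing C]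
    [Algebra A B] [Algebra B C]
    [IsLocalHom (algebraMap A B)] [IsLocalHom (algebraMap B C)]
    [Field K] [Field L] [Field M] [Algebra A K] [IsFractionRing A K] [Algebra B L] [IsFractionRing B L]
    [Algebra C M] [IsFractionRing C M] [Algebra K L] [Algebra L M] [Algebra K M] [IsScalarTower K L M]
    [Algebra A L] [IsScalarTower A K L] [IsScalarTower A B L] [Algebra B M] [IsScalarTower B L M] [IsScalarTower B C M]
    [Field K₁] [Algebra K K₁] [FiniteDimensional K K₁]

omit [IsDomain A] [IsDiscreteValuationRing A] [Algebra A K] [IsFractionRing A K] [IsLocalHom (algebraMap A B)]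
  [Algebra A L] [IsScalarTower A K L] [IsScalarTower A B L] [Algebra A B] [CommRing A] in
theorem case_unr {p : ℕ} (hp : p.Prime) [CharP K p] (z : M) (hzadj : Algebra.adjoin L {z} = ⊤) (ξ : L)
    (hz : z ^ p - z = algebraMap L M ξ) (w : K₁) (ξ₀ : K) (hw : w ^ p - w = algebraMap K K₁ ξ₀) (s : B) (η : L)
    (h : ξ - algebraMap K L ξ₀ = algebraMap B L s + (η ^ p - η)) (hB : IsWeakSolution B K L K₁) :
    IsWeakSolution C K M K₁ := by
  classical
  refine K362.Stage.isWeakSolution_of_step (B := B) (L := L) hB ?_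
  intro M' _ _ _ _ _ _ _ _ _ hadj W hWC hWB
  have hcharM' : CharP M' p := charP_of_injective_algebraMap (algebraMap K M').injective p
  have hexp : ExpChar M' p := ExpChar.prime hp
  let L₁ := adjoin L (Set.range (algebraMap K₁ M'))
  have hcharL₁ : CharP L₁ p := charP_of_injective_algebraMap (algebraMap K L₁).injective p
  have hcharL : CharP L p := charP_of_injective_algebraMap (algebraMap K L).injective p
  have hfact : Fact p.Prime := ⟨hp⟩
  have hdegF : (Polynomial.X + Polynomial.C ξ).degree < (p : WithBot ℕ) := by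
    rw [Polynomial.degree_X_add_C]
    exact_mod_cast hp.one_lt
  obtain ⟨hfin, hle⟩ := K362.Stage.finite_top hadj z hzadj
    (Polynomial.X ^ p - (Polynomial.X + Polynomial.C ξ)) (Polynomial.monic_X_pow_sub hdegF) (by
      rw [map_sub, map_pow, map_add, Polynomial.aeval_X, Polynomial.aeval_C, ← hz]
      ring)
  have hfinL₁ : FiniteDimensional L L₁ := K362.SolUp.finite_stage (K := K)
  have hdom : Dominates B ((algebraMap L L₁).comp (algebraMap B L)) (W.comap (algebraMap L₁ M')) := by
    rw [← dominates_comp_iff]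
    exact hWB
  have hdvr : IsDiscreteValuationRing (W.comap (algebraMap L₁ M')) :=
    Groth.Agent.Etalg.RamDVR.isDVR_of_dominates (A := B) (K := L) hdom
  let w₁ : L₁ := ⟨algebraMap K₁ M' w, subset_adjoin _ _ ⟨w, rfl⟩⟩
  have hw₁ : algebraMap L₁ M' w₁ = algebraMap K₁ M' w := rfl
  refine unr_core hp W (algebraMap L L₁ (algebraMap B L s)) (hdom.1 s)
    (algebraMap M M' z - algebraMap L₁ M' (algebraMap L L₁ η + w₁)) ?_ ?_
  · have e1 : algebraMap M M' z ^ p - algebraMap M M' z = algebraMap L M' ξ := by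
      rw [← map_pow, ← map_sub, hz, ← IsScalarTower.algebraMap_apply]
    have e2 : algebraMap K₁ M' w ^ p - algebraMap K₁ M' w = algebraMap L M' (algebraMap K L ξ₀) := by
      rw [← map_pow, ← map_sub, hw, ← IsScalarTower.algebraMap_apply, ← IsScalarTower.algebraMap_apply]
    have e3 := congrArg (algebraMap L M') h
    rw [map_sub, map_add, map_sub, map_pow] at e3
    have e4 : algebraMap L₁ M' (algebraMap L L₁ (algebraMap B L s)) = algebraMap L M' (algebraMap B L s) := by
      rw [← IsScalarTower.algebraMap_apply]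
    have e5 : algebraMap L₁ M' (algebraMap L L₁ η) = algebraMap L M' η := by
      rw [← IsScalarTower.algebraMap_apply]
    rw [map_add, e4, e5, hw₁, sub_pow_expChar, add_pow_expChar]
    linear_combination e1 - e2 + e3
  · have h1 := K362.Stage.adjoin_top hadj z hzadj
    rw [eq_top_iff, ← h1]
    refine Algebra.adjoin_le ?_
    rw [Set.singleton_subset_iff]
    show algebraMap M M' z ∈ _
    have h2 := add_mem (Algebra.subset_adjoin (R := L₁)
      (Set.mem_singleton (algebraMap M M' z - algebraMap L₁ M' (algebraMap L L₁ η + w₁))))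
      (Subalgebra.algebraMap_mem (Algebra.adjoin L₁ {algebraMap M M' z - algebraMap L₁ M' (algebraMap L L₁ η + w₁)})
        (algebraMap L L₁ η + w₁))
    rwa [sub_add_cancel] at h2

end Cases

end K362.ASFierce
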