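import Groth.Agent.EtAlg.K362.InsepLim
import Groth.Agent.EtAlg.K362.Stage

/-!
# Purely inseparable extensions of degree `p`: the fierce case
-/

set_option autoImplicit false
universe u

namespace K362.InsepFierce

open IsLocalRing EtRam Groth.Agent.Etalg.RamBasic IntermediateField TensorProduct

theorem val_pow_sub {M' : Type*} [Field M'] (V : ValuationSubring M') (x y : M') (hx : x ∈ V) (hy : y ∈ V) (j : ℕ) :
    V.valuation (x ^ j - y ^ j) ≤ V.valuation (x - y) := by
  have h1 : x ^ j - y ^ j = (x - y) * ∑ i ∈ Finset.range j, x ^ i * y ^ (j - 1 - i) := by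
    rw [mul_comm]
    exact (Commute.all x y).geom_sum₂_mul j |>.symm
  rw [h1, map_mul]
  have h2 : V.valuation (∑ i ∈ Finset.range j, x ^ i * y ^ (j - 1 - i)) ≤ 1 := by
    rw [V.valuation_le_one_iff]
    exact sum_mem fun i _ => mul_mem (pow_mem hx _) (pow_mem hy _)
  calc _ ≤ V.valuation (x - y) * 1 := mul_le_mul_right h2 _
    _ = _ := mul_one _

theorem val_root {M' : Type*} [Field M'] (V : ValuationSubring M') {p : ℕ} (hp : p.Prime) [CharP M' p]
    (m : ℕ) (bs : ℕ → M') (b ϖ π c u : M') (hbs : ∀ i, bs i ∈ V) (hb : b ∈ V) (hϖ0 : ϖ ≠ 0)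
    (hϖ : V.valuation ϖ < 1) (hπ : V.valuation (ϖ ^ p - π) ≤ V.valuation ϖ ^ ((m + 2) * p))
    (hc : c ^ p = u * π)
    (hu : u = ∑ i ∈ Finset.range m, bs i ^ p * π ^ i + b * π ^ m) :
    V.valuation (((c - ∑ i ∈ Finset.range m, bs i * ϖ ^ (i + 1)) / ϖ ^ (m + 1)) ^ p - b) < 1 := by
  have hexp : ExpChar M' p := ExpChar.prime hp
  have hϖV : ϖ ∈ V := (V.valuation_le_one_iff ϖ).mp hϖ.le
  have hπV : π ∈ V := by
    have h1 : ϖ ^ p - π ∈ V := (V.valuation_le_one_iff _).mp (hπ.trans (pow_le_one₀ zero_le hϖ.le))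
    have h2 := sub_mem (pow_mem hϖV p) h1
    rwa [sub_sub_cancel] at h2
  have h0 : (ϖ ^ p) ^ (m + 1) ≠ 0 := pow_ne_zero _ (pow_ne_zero _ hϖ0)
  have h1 : ((c - ∑ i ∈ Finset.range m, bs i * ϖ ^ (i + 1)) / ϖ ^ (m + 1)) ^ p - b =
      (∑ i ∈ Finset.range m, bs i ^ p * (π ^ (i + 1) - (ϖ ^ p) ^ (i + 1)) +
        b * (π ^ (m + 1) - (ϖ ^ p) ^ (m + 1))) / (ϖ ^ p) ^ (m + 1) := by
    rw [div_pow, sub_pow_expChar, sum_pow_char, hc, hu, ← pow_mul, mul_comm (m + 1) p, pow_mul,
      eq_div_iff h0, sub_mul, div_mul_cancel₀ _ h0]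
    have h2 : ∀ i, (bs i * ϖ ^ (i + 1)) ^ p = bs i ^ p * (ϖ ^ p) ^ (i + 1) := by
      intro i
      rw [mul_pow, ← pow_mul, ← pow_mul, mul_comm (i + 1) p]
    have h3 : ∑ i ∈ Finset.range m, bs i ^ p * (π ^ (i + 1) - (ϖ ^ p) ^ (i + 1)) =
        (∑ i ∈ Finset.range m, bs i ^ p * π ^ i) * π - ∑ i ∈ Finset.range m, bs i ^ p * (ϖ ^ p) ^ (i + 1) := by
      rw [Finset.sum_mul, ← Finset.sum_sub_distrib]
      refine Finset.sum_congr rfl fun i _ => ?_
      rw [pow_succ π]
      ring
    rw [Finset.sum_congr rfl (fun i _ => h2 i), h3, pow_succ π]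
    ring
  have h4 : ∀ j, V.valuation (π ^ j - (ϖ ^ p) ^ j) ≤ V.valuation ϖ ^ ((m + 2) * p) := by
    intro j
    refine (val_pow_sub V _ _ hπV (pow_mem hϖV p) j).trans ?_
    rw [Valuation.map_sub_swap]
    exact hπ
  have h5 : V.valuation (∑ i ∈ Finset.range m, bs i ^ p * (π ^ (i + 1) - (ϖ ^ p) ^ (i + 1)) +
        b * (π ^ (m + 1) - (ϖ ^ p) ^ (m + 1))) ≤ V.valuation ϖ ^ ((m + 2) * p) := by
    refine (V.valuation.map_add _ _).trans (max_le ?_ ?_)
    · refine V.valuation.map_sum_le fun i _ => ?_
      rw [map_mul]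
      calc _ ≤ 1 * V.valuation ϖ ^ ((m + 2) * p) :=
            mul_le_mul' ((V.valuation_le_one_iff _).mpr (pow_mem (hbs i) p)) (h4 _)
        _ = _ := one_mul _
    · rw [map_mul]
      calc _ ≤ 1 * V.valuation ϖ ^ ((m + 2) * p) :=
            mul_le_mul' ((V.valuation_le_one_iff _).mpr hb) (h4 _)
        _ = _ := one_mul _
  have hvϖ : 0 < V.valuation ϖ := by rwa [zero_lt_iff, Valuation.ne_zero_iff]
  rw [h1, map_div₀, div_lt_one₀ (by rw [zero_lt_iff, Valuation.ne_zero_iff]; exact h0)]
  refine lt_of_le_of_lt h5 ?_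
  rw [map_pow, map_pow, ← pow_mul]
  exact pow_lt_pow_right_of_lt_one₀ hvϖ hϖ (by nlinarith [hp.pos])

variable {A B C K L M K₁ : Type u}
    [CommRing A] [IsDomain A] [IsDiscreteValuationRing A] [CommRing B] [IsDomain B] [IsDiscreteValuationRing B]
    [CommRing C] [IsDomain C] [IsDiscreteValuationRing C]
    [Algebra A B] [Algebra B C]
    [IsLocalHom (algebraMap A B)] [IsLocalHom (algebraMap B C)]
    [Field K] [Field L] [Field M] [Algebra A K] [IsFractionRing A K] [Algebra B L] [IsFractionRing B L]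
    [Algebra C M] [IsFractionRing C M] [Algebra K L] [Algebra L M] [Algebra K M] [IsScalarTower K L M]
    [Algebra A L] [IsScalarTower A K L] [IsScalarTower A B L] [Algebra B M] [IsScalarTower B L M] [IsScalarTower B C M]
    [Field K₁] [Algebra K K₁] [FiniteDimensional K K₁]

theorem isWeakSolution {p : ℕ} (hp : p.Prime) [CharP K p] {π : A}
    (hπB : Irreducible (algebraMap A B π)) (hdeg : Module.finrank L M = p) (c : C) (u : B) (hu : IsUnit u)
    (hcu : c ^ p = algebraMap B C (u * algebraMap A B π)) (m : ℕ) (bs : ℕ → B) (b : B)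
    (hexp : u = ∑ i ∈ Finset.range m, bs i ^ p * algebraMap A B π ^ i + b * algebraMap A B π ^ m)
    (hb : ∀ r : B, IsUnit (b - r ^ p))
    (hK₁ : Module.finrank K K₁ = p) (ϖ : K₁)
    (hϖ : ∀ V : ValuationSubring K₁, Dominates A ((algebraMap K K₁).comp (algebraMap A K)) V →
      V.valuation ϖ ^ p = V.valuation (algebraMap K K₁ (algebraMap A K π)) ∧
      V.valuation (ϖ ^ p - algebraMap K K₁ (algebraMap A K π)) ≤ V.valuation ϖ ^ ((m + 2) * p))
    (hB : IsWeakSolution B K L K₁) : IsWeakSolution C K M K₁ := by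
  classical
  refine K362.Stage.isWeakSolution_of_step (B := B) (L := L) hB ?_
  intro M' _ _ _ _ _ _ _ _ _ hadj W hWC hWB
  have hcharM' : CharP M' p := charP_of_injective_algebraMap (algebraMap K M').injective p
  let V₀ : ValuationSubring M := vsub C M
  have hV₀ : Dominates B ((algebraMap L M).comp (algebraMap B L)) V₀ := K362.InsepLim.dominates_vsub' B C L M
  let y : M := algebraMap C M c
  have hyp : y ^ p = algebraMap L M (algebraMap B L (u * algebraMap A B π)) := by
    rw [← map_pow, hcu, ← IsScalarTower.algebraMap_apply, IsScalarTower.algebraMap_apply B L M]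
  have hy : V₀.valuation y ^ p = V₀.valuation (algebraMap L M (algebraMap B L (algebraMap A B π))) := by
    rw [← map_pow, hyp, map_mul, map_mul, map_mul]
    have h1 := Groth.Agent.Etalg.RamDVR.valuation_eq_one_of_isUnit hV₀ hu
    simp only [RingHom.comp_apply] at h1
    rw [h1, one_mul]
  have hydeg := K362.InsepLim.natDegree_minpoly hp hdeg hπB hV₀ y hy
  have hytop := K362.InsepLim.adjoin_eq_top_of_natDegree hp hdeg y hydeg
  obtain ⟨hfin, hle⟩ := K362.Stage.finite_top hadj y hytop
    (Polynomial.X ^ p - Polynomial.C (algebraMap B L (u * algebraMap A B π)))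
    (Polynomial.monic_X_pow_sub_C _ hp.ne_zero) (by
      rw [map_sub, map_pow, Polynomial.aeval_X, Polynomial.aeval_C, hyp, sub_self])
  rw [Polynomial.natDegree_X_pow_sub_C] at hle
  let L₁ := adjoin L (Set.range (algebraMap K₁ M'))
  have hfinL₁ : FiniteDimensional L L₁ := K362.SolUp.finite_stage (K := K)
  have ht : IsTotallyRamified B ((algebraMap L L₁).comp (algebraMap B L)) :=
    K362.Stage.isTotallyRamified_stage (A := A) (π := π) hπB ϖ (by
      rw [hK₁]
      exact fun V hV => (hϖ V hV).1)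
  have hdom : Dominates B ((algebraMap L L₁).comp (algebraMap B L)) (W.comap (algebraMap L₁ M')) := by
    rw [← dominates_comp_iff]
    exact hWB
  have hdvr : IsDiscreteValuationRing (W.comap (algebraMap L₁ M')) :=
    Groth.Agent.Etalg.RamDVR.isDVR_of_dominates (A := B) (K := L) hdom
  have hcharκ : CharP (ResidueField (W.comap (algebraMap L₁ M'))) p := by
    rw [CharP.charP_iff_prime_eq_zero hp]
    have h1 : ((p : W.comap (algebraMap L₁ M')) : W.comap (algebraMap L₁ M')) = 0 := by
      apply Subtype.ext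
      apply (algebraMap L₁ M').injective
      have : CharP L₁ p := charP_of_injective_algebraMap (algebraMap K L₁).injective p
      show algebraMap L₁ M' (p : L₁) = algebraMap L₁ M' 0
      rw [CharP.cast_eq_zero]
    have h2 := congrArg (residue (W.comap (algebraMap L₁ M'))) h1
    rwa [map_natCast, map_zero] at h2
  have hval1 : ∀ x : B, IsUnit x → W.valuation (algebraMap L M' (algebraMap B L x)) = 1 := fun x hx =>
    Groth.Agent.Etalg.RamDVR.valuation_eq_one_of_isUnit hWB hx
  have hexpM' : ExpChar M' p := ExpChar.prime hp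
  refine K362.Stage.fierce_step hp hle W (algebraMap L L₁ (algebraMap B L b)) (hWB.1 b) ?_
    ((algebraMap M M' y - ∑ i ∈ Finset.range m, algebraMap L M' (algebraMap B L (bs i)) *
      algebraMap K₁ M' ϖ ^ (i + 1)) / algebraMap K₁ M' ϖ ^ (m + 1)) ?_
  · intro r hr
    obtain ⟨r₀, hr₀⟩ := K362.Stage.exists_residue ht W hWB (r : M') r.2 hr
    have h1 : W.valuation (algebraMap L M' (algebraMap B L r₀) ^ p - (r : M') ^ p) < 1 := by
      rw [← sub_pow_expChar, map_pow, Valuation.map_sub_swap]
      exact pow_lt_one₀ zero_le hr₀ hp.ne_zero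
    have h2 : algebraMap L₁ M' (algebraMap L L₁ (algebraMap B L b)) - algebraMap L₁ M' r ^ p =
        algebraMap L M' (algebraMap B L (b - r₀ ^ p)) +
          (algebraMap L M' (algebraMap B L r₀) ^ p - (r : M') ^ p) := by
      rw [← IsScalarTower.algebraMap_apply, map_sub, map_sub, map_pow, map_pow]
      show _ - (r : M') ^ p = _
      ring
    rw [h2, Valuation.map_add_eq_of_lt_left _ (by rw [hval1 _ (hb r₀)]; exact h1), hval1 _ (hb r₀)]
  · intro V hV
    have hVB : Dominates B ((algebraMap L M').comp (algebraMap B L)) V := by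
      have h1 : Dominates B ((algebraMap L L₁).comp (algebraMap B L)) (V.comap (algebraMap L₁ M')) := by
        rw [hV]; exact hdom
      rw [← dominates_comp_iff] at h1
      exact h1
    have hVA : Dominates A ((algebraMap K K₁).comp (algebraMap A K)) (V.comap (algebraMap K₁ M')) := by
      rw [← dominates_comp_iff]
      have h1 := K362.Stage.dominates_down (A := A) (K := K) (algebraMap L M') V hVB (algebraMap K M')
        (fun x => (IsScalarTower.algebraMap_apply K L M' x).symm)
      rwa [IsScalarTower.algebraMap_eq K K₁ M'] at h1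
    obtain ⟨h1, h2⟩ := hϖ _ hVA
    have hπeq : algebraMap K₁ M' (algebraMap K K₁ (algebraMap A K π)) =
        algebraMap L M' (algebraMap B L (algebraMap A B π)) := by
      rw [← IsScalarTower.algebraMap_apply K K₁ M', ← IsScalarTower.algebraMap_apply A B L,
        IsScalarTower.algebraMap_apply A K L, ← IsScalarTower.algebraMap_apply K L M']
    have h3 : V.valuation (algebraMap K₁ M' ϖ) ^ p =
        V.valuation (algebraMap L M' (algebraMap B L (algebraMap A B π))) := by
      have e1 := h1
      rw [← map_pow (V.comap (algebraMap K₁ M')).valuation, valuation_comap_eq_iff, map_pow (algebraMap K₁ M'), hπeq,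
        map_pow V.valuation] at e1
      exact e1
    have hπlt : V.valuation (algebraMap L M' (algebraMap B L (algebraMap A B π))) < 1 :=
      hVB.2 _ ((mem_maximalIdeal _).mpr hπB.not_isUnit)
    have hπ0 : algebraMap L M' (algebraMap B L (algebraMap A B π)) ≠ 0 := by
      rw [Ne, map_eq_zero, map_eq_zero_iff _ (IsFractionRing.injective B L)]
      exact hπB.ne_zero
    have h4 : V.valuation (algebraMap K₁ M' ϖ) < 1 := by
      rw [← pow_lt_one_iff_of_nonneg zero_le hp.ne_zero, h3]
      exact hπlt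
    have h5 : algebraMap K₁ M' ϖ ≠ 0 := by
      intro h0
      rw [h0, map_zero, zero_pow hp.ne_zero] at h3
      exact (Valuation.ne_zero_iff _).mpr hπ0 h3.symm
    have g1 : V.valuation (algebraMap K₁ M' ϖ ^ p - algebraMap L M' (algebraMap B L (algebraMap A B π))) ≤
        V.valuation (algebraMap K₁ M' ϖ) ^ ((m + 2) * p) := by
      have e1 := h2
      rw [← map_pow (V.comap (algebraMap K₁ M')).valuation, valuation_comap_le_iff, map_sub, map_pow (algebraMap K₁ M'),
        map_pow (algebraMap K₁ M'), hπeq, map_pow V.valuation] at e1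
      exact e1
    have g2 : algebraMap M M' y ^ p = algebraMap L M' (algebraMap B L u) *
        algebraMap L M' (algebraMap B L (algebraMap A B π)) := by
      have e1 : algebraMap M M' y ^ p = algebraMap M M' (y ^ p) := (map_pow (algebraMap M M') y p).symm
      rw [e1, hyp, ← IsScalarTower.algebraMap_apply L M M', map_mul (algebraMap B L), map_mul (algebraMap L M')]
    have g3 : algebraMap L M' (algebraMap B L u) = ∑ i ∈ Finset.range m,
        (algebraMap L M' (algebraMap B L (bs i))) ^ p * algebraMap L M' (algebraMap B L (algebraMap A B π)) ^ i +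
        algebraMap L M' (algebraMap B L b) * algebraMap L M' (algebraMap B L (algebraMap A B π)) ^ m := by
      have e1 := congrArg (fun x => ((algebraMap L M').comp (algebraMap B L)) x) hexp
      simp only [map_add, map_sum, map_mul, map_pow] at e1
      exact e1
    have h6 := K362.InsepFierce.val_root V hp m (fun i => algebraMap L M' (algebraMap B L (bs i)))
      (algebraMap L M' (algebraMap B L b)) (algebraMap K₁ M' ϖ)
      (algebraMap L M' (algebraMap B L (algebraMap A B π))) (algebraMap M M' y)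
      (algebraMap L M' (algebraMap B L u)) (fun i => hVB.1 _) (hVB.1 _) h5 h4 g1 g2 g3
    have h7 : algebraMap L₁ M' (algebraMap L L₁ (algebraMap B L b)) = algebraMap L M' (algebraMap B L b) := by
      rw [← IsScalarTower.algebraMap_apply]
    rw [h7]
    exact h6

end K362.InsepFierce
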