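import Groth.Agent.EtAlg.K362.ASFierce
import Groth.Agent.EtAlg.K362.InsepFierce

/-!
# Artin–Schreier extensions: weak solutions in the fierce case
-/

set_option autoImplicit false
universe u

namespace K362.ASFierce

open IsLocalRing EtRam Groth.Agent.Etalg.RamBasic IntermediateField Finset K362.ASRel

theorem val_hyps {F : Type*} [Field F] (S : ValuationSubring F) {π ϖ : F} {q n : ℕ} (N : ℕ) (hϖ0 : ϖ ≠ 0)
    (h1 : S.valuation ϖ < 1) (h2 : S.valuation ϖ ^ q = S.valuation π)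
    (h3 : S.valuation (ϖ ^ q - π) ≤ S.valuation ϖ ^ (2 * n * q)) :
    π ^ N / ϖ ^ (N * q) ∈ S ∧ ∀ i ∈ Icc 1 n, 1 / π ^ i - 1 / ϖ ^ (i * q) ∈ S := by
  have hv0 : 0 < S.valuation ϖ := by rwa [zero_lt_iff, Valuation.ne_zero_iff]
  have hπ0 : π ≠ 0 := by
    rintro rfl
    rw [map_zero] at h2
    exact pow_ne_zero _ hv0.ne' h2
  have hϖS : ϖ ∈ S := (S.valuation_le_one_iff _).mp h1.le
  have hπS : π ∈ S := by
    rw [← S.valuation_le_one_iff, ← h2]
    exact pow_le_one₀ zero_le h1.le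
  constructor
  · rw [← S.valuation_le_one_iff, map_div₀, map_pow, map_pow, ← h2, ← pow_mul, mul_comm q N, div_self]
    exact pow_ne_zero _ hv0.ne'
  · intro i hi
    rw [mem_Icc] at hi
    have e1 : 1 / π ^ i - 1 / ϖ ^ (i * q) = ((ϖ ^ q) ^ i - π ^ i) / (π ^ i * ϖ ^ (i * q)) := by
      rw [mul_comm i q, pow_mul]
      have a1 : π ^ i ≠ 0 := pow_ne_zero _ hπ0
      have a2 : (ϖ ^ q) ^ i ≠ 0 := pow_ne_zero _ (pow_ne_zero _ hϖ0)
      field_simp
    have e2 : S.valuation π ^ i * S.valuation ϖ ^ (i * q) = S.valuation ϖ ^ (i * q + i * q) := by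
      rw [← h2, ← pow_mul, mul_comm q i, ← pow_add]
    rw [← S.valuation_le_one_iff, e1, map_div₀, map_mul, map_pow S.valuation π, map_pow S.valuation ϖ (i * q), e2]
    rw [div_le_one₀ (pow_pos hv0 _)]
    refine (K362.InsepFierce.val_pow_sub S _ _ (pow_mem hϖS q) hπS i).trans (h3.trans ?_)
    refine pow_le_pow_of_le_one zero_le h1.le ?_
    have : i * q ≤ n * q := Nat.mul_le_mul_right _ hi.2
    nlinarith

/-- The leading term. -/
theorem val_leading {F : Type*} [Field F] (S : ValuationSubring F) (ϖ : F) (hϖ0 : ϖ ≠ 0)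
    (h1 : S.valuation ϖ < 1) (x : ℕ → F) (hx : ∀ m, x m ∈ S) (E : ℕ → ℕ) (T : Finset ℕ) (m₀ : ℕ) (hm₀ : m₀ ∈ T)
    (hE : 0 < E m₀) (hmax : ∀ m ∈ T, m ≠ m₀ → E m < E m₀) (s : F) (hs : s ∈ S) :
    S.valuation ((∑ m ∈ T, x m / ϖ ^ E m + s) * ϖ ^ E m₀ - x m₀) < 1 := by
  classical
  have e1 : (∑ m ∈ T, x m / ϖ ^ E m + s) * ϖ ^ E m₀ - x m₀ =
      ∑ m ∈ T.erase m₀, x m * ϖ ^ (E m₀ - E m) + s * ϖ ^ E m₀ := by
    rw [← add_sum_erase _ _ hm₀, add_mul, add_mul, div_mul_cancel₀ _ (pow_ne_zero _ hϖ0), sum_mul]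
    have e2 : ∑ m ∈ T.erase m₀, x m / ϖ ^ E m * ϖ ^ E m₀ = ∑ m ∈ T.erase m₀, x m * ϖ ^ (E m₀ - E m) := by
      refine sum_congr rfl fun m hm => ?_
      rw [mem_erase] at hm
      have h3 := (hmax m hm.2 hm.1).le
      have e3 : ϖ ^ E m₀ = ϖ ^ E m * ϖ ^ (E m₀ - E m) := by rw [← pow_add, Nat.add_sub_cancel' h3]
      rw [e3, div_mul_eq_mul_div, mul_comm (ϖ ^ E m), ← mul_assoc, mul_div_assoc, div_self (pow_ne_zero _ hϖ0),
        mul_one]
    rw [e2]
    ring
  rw [e1]
  refine lt_of_le_of_lt (S.valuation.map_add _ _) (max_lt ?_ ?_)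
  · refine Valuation.map_sum_lt _ one_ne_zero fun m hm => ?_
    rw [mem_erase] at hm
    have h3 := hmax m hm.2 hm.1
    rw [map_mul, map_pow]
    calc _ ≤ 1 * S.valuation ϖ ^ (E m₀ - E m) := mul_le_mul_left ((S.valuation_le_one_iff _).mpr (hx m)) _
      _ = S.valuation ϖ ^ (E m₀ - E m) := one_mul _
      _ < 1 := pow_lt_one₀ zero_le h1 (by omega)
  · rw [map_mul, map_pow]
    calc _ ≤ 1 * S.valuation ϖ ^ E m₀ := mul_le_mul_left ((S.valuation_le_one_iff _).mpr hs) _
      _ = S.valuation ϖ ^ E m₀ := one_mul _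
      _ < 1 := pow_lt_one₀ zero_le h1 (by omega)

section Cases

variable {A B C K L M K₁ : Type u}
    [CommRing A] [IsDomain A] [IsDiscreteValuationRing A] [CommRing B] [IsDomain B] [IsDiscreteValuationRing B]
    [CommRing C] [IsDomain C] [IsDiscreteValuationRing C]
    [Algebra A B] [Algebra B C]
    [IsLocalHom (algebraMap A B)] [IsLocalHom (algebraMap B C)]
    [Field K] [Field L] [Field M] [Algebra A K] [IsFractionRing A K] [Algebra B L] [IsFractionRing B L]
    [Algebra C M] [IsFractionRing C M] [Algebra K L] [Algebra L M] [Algebra K M] [IsScalarTower K L M]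
    [Algebra A L] [IsScalarTower A K L] [IsScalarTower A B L] [Algebra B M] [IsScalarTower B L M] [IsScalarTower B C M]
    [Field K₁] [Algebra K K₁] [FiniteDimensional K K₁]

omit [IsFractionRing A K] [IsFractionRing B L] [FiniteDimensional K K₁] in
/-- values in the stage `L K₁` -/
theorem stage_val {M' : Type u} [Field M'] [Algebra K M'] [Algebra L M'] [Algebra K₁ M']
    [IsScalarTower K L M'] [IsScalarTower K K₁ M'] (W : ValuationSubring M')
    (hWB : Dominates B ((algebraMap L M').comp (algebraMap B L)) W) {π : A} (ϖ : K₁) {q k : ℕ}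
    (hϖ : ∀ V : ValuationSubring K₁, Dominates A ((algebraMap K K₁).comp (algebraMap A K)) V →
      V.valuation ϖ ^ q = V.valuation (algebraMap K K₁ (algebraMap A K π)) ∧
      V.valuation (ϖ ^ q - algebraMap K K₁ (algebraMap A K π)) ≤ V.valuation ϖ ^ k) :
    W.valuation (algebraMap K₁ M' ϖ) ^ q = W.valuation (algebraMap L M' (algebraMap B L (algebraMap A B π))) ∧
    W.valuation (algebraMap K₁ M' ϖ ^ q - algebraMap L M' (algebraMap B L (algebraMap A B π))) ≤
      W.valuation (algebraMap K₁ M' ϖ) ^ k := by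
  have hVA : Dominates A ((algebraMap K K₁).comp (algebraMap A K)) (W.comap (algebraMap K₁ M')) := by
    rw [← dominates_comp_iff]
    have h1 := K362.Stage.dominates_down (A := A) (K := K) (algebraMap L M') W hWB (algebraMap K M')
      (fun x => (IsScalarTower.algebraMap_apply K L M' x).symm)
    rwa [IsScalarTower.algebraMap_eq K K₁ M'] at h1
  obtain ⟨h1, h2⟩ := hϖ _ hVA
  have hπeq : algebraMap K₁ M' (algebraMap K K₁ (algebraMap A K π)) =
      algebraMap L M' (algebraMap B L (algebraMap A B π)) := by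
    rw [← IsScalarTower.algebraMap_apply K K₁ M', ← IsScalarTower.algebraMap_apply A B L,
      IsScalarTower.algebraMap_apply A K L, ← IsScalarTower.algebraMap_apply K L M']
  constructor
  · have e1 := h1
    rw [← map_pow (W.comap (algebraMap K₁ M')).valuation, valuation_comap_eq_iff, map_pow (algebraMap K₁ M'), hπeq,
      map_pow W.valuation] at e1
    exact e1
  · have e1 := h2
    rw [← map_pow (W.comap (algebraMap K₁ M')).valuation, valuation_comap_le_iff, map_sub, map_pow (algebraMap K₁ M'),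
      map_pow (algebraMap K₁ M'), hπeq, map_pow W.valuation] at e1
    exact e1

theorem case_fierce {p : ℕ} [hp : Fact p.Prime] [CharP K p] {π : A} (hπB : Irreducible (algebraMap A B π))
    (z : M) (hzadj : Algebra.adjoin L {z} = ⊤) (ξ : L) (hz : z ^ p - z = algebraMap L M ξ)
    {n r : ℕ} (s : ResidueField B → B) (hs : Sec B (algebraMap A B π) (n * p ^ n) s) (l : ℕ → ResidueField B)
    (b₀ : B) (hl : ξ = ∑ i ∈ Icc 1 n, algebraMap B L (s (l i)) / algebraMap B L (algebraMap A B π) ^ i +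
      algebraMap B L b₀)
    (c : ℕ → ResidueField B) (f : ℕ → ℕ) (hf : ∀ m ∈ Mset p n, f m ≤ n + r)
    (hc : ∀ m ∈ Mset p n, c m ^ p ^ f m = D p n l m)
    (m₀ : ℕ) (hm₀ : m₀ ∈ Mset p n) (hfm₀ : f m₀ < n + r) (hcm₀ : ∀ y, y ^ p ≠ c m₀)
    (hmax : ∀ m ∈ Mset p n, m ≠ m₀ → m * p ^ (n + r - f m) < m₀ * p ^ (n + r - f m₀))
    (hK₁ : Module.finrank K K₁ = p ^ r) (ϖ : K₁)
    (hϖ : ∀ V : ValuationSubring K₁, Dominates A ((algebraMap K K₁).comp (algebraMap A K)) V →
      V.valuation ϖ ^ p ^ r = V.valuation (algebraMap K K₁ (algebraMap A K π)) ∧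
      V.valuation (ϖ ^ p ^ r - algebraMap K K₁ (algebraMap A K π)) ≤ V.valuation ϖ ^ (2 * n * p ^ r))
    (hB : IsWeakSolution B K L K₁) : IsWeakSolution C K M K₁ := by
  classical
  refine K362.Stage.isWeakSolution_of_step (B := B) (L := L) hB ?_
  intro M' _ _ _ _ _ _ _ _ _ hadj W hWC hWB
  have hcharM' : CharP M' p := charP_of_injective_algebraMap (algebraMap K M').injective p
  have hexp : ExpChar M' p := ExpChar.prime hp.out
  let L₁ := adjoin L (Set.range (algebraMap K₁ M'))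
  have hcharL₁ : CharP L₁ p := charP_of_injective_algebraMap (algebraMap K L₁).injective p
  have hdegF : (Polynomial.X + Polynomial.C ξ).degree < (p : WithBot ℕ) := by
    rw [Polynomial.degree_X_add_C]
    exact_mod_cast hp.out.one_lt
  have hnatF : (Polynomial.X ^ p - (Polynomial.X + Polynomial.C ξ)).natDegree = p := by
    apply Polynomial.natDegree_eq_of_degree_eq_some
    rw [Polynomial.degree_sub_eq_left_of_degree_lt (by rwa [Polynomial.degree_X_pow]), Polynomial.degree_X_pow]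
  obtain ⟨hfin, hle⟩ := K362.Stage.finite_top hadj z hzadj
    (Polynomial.X ^ p - (Polynomial.X + Polynomial.C ξ)) (Polynomial.monic_X_pow_sub hdegF) (by
      rw [map_sub, map_pow, map_add, Polynomial.aeval_X, Polynomial.aeval_C, ← hz]
      ring)
  rw [hnatF] at hle
  have hfinL₁ : FiniteDimensional L L₁ := K362.SolUp.finite_stage (K := K)
  let S : ValuationSubring L₁ := W.comap (algebraMap L₁ M')
  have hdom : Dominates B ((algebraMap L L₁).comp (algebraMap B L)) S := by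
    rw [← dominates_comp_iff]
    exact hWB
  have hdvr : IsDiscreteValuationRing (W.comap (algebraMap L₁ M')) :=
    Groth.Agent.Etalg.RamDVR.isDVR_of_dominates (A := B) (K := L) hdom
  have hcharκ : CharP (ResidueField (W.comap (algebraMap L₁ M'))) p := by
    have hch : CharP S p := (algebraMap S L₁).charP (IsFractionRing.injective S L₁) p
    rw [CharP.charP_iff_prime_eq_zero hp.out, ← map_natCast (residue S), CharP.cast_eq_zero, map_zero]
  have ht : IsTotallyRamified B ((algebraMap L L₁).comp (algebraMap B L)) :=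
    K362.Stage.isTotallyRamified_stage (A := A) (π := π) hπB ϖ (by
      rw [hK₁]
      exact fun V hV => (hϖ V hV).1)
  -- values
  obtain ⟨hv1, hv2⟩ := stage_val (K := K) (L := L) W hWB ϖ hϖ
  let g : B →+* L₁ := (algebraMap L L₁).comp (algebraMap B L)
  have hgW : ∀ b, algebraMap L₁ M' (g b) = algebraMap L M' (algebraMap B L b) := fun b => by
    show algebraMap L₁ M' (algebraMap L L₁ (algebraMap B L b)) = _
    rw [← IsScalarTower.algebraMap_apply]
  let ϖ₁ : L₁ := ⟨algebraMap K₁ M' ϖ, subset_adjoin _ _ ⟨ϖ, rfl⟩⟩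
  have hϖ₁ : algebraMap L₁ M' ϖ₁ = algebraMap K₁ M' ϖ := rfl
  have hS1 : S.valuation ϖ₁ ^ p ^ r = S.valuation (g (algebraMap A B π)) := by
    rw [← map_pow, valuation_comap_eq_iff, map_pow, map_pow, hϖ₁, hgW]
    exact hv1
  have hS2 : S.valuation (ϖ₁ ^ p ^ r - g (algebraMap A B π)) ≤ S.valuation ϖ₁ ^ (2 * n * p ^ r) := by
    rw [← map_pow S.valuation, valuation_comap_le_iff, map_sub, map_pow, map_pow, map_pow, hϖ₁, hgW]
    exact hv2
  have hπlt : S.valuation (g (algebraMap A B π)) < 1 := hdom.2 _ ((mem_maximalIdeal _).mpr hπB.not_isUnit)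
  have hgπ0 : g (algebraMap A B π) ≠ 0 := by
    show algebraMap L L₁ (algebraMap B L (algebraMap A B π)) ≠ 0
    rw [Ne, map_eq_zero, map_eq_zero_iff _ (IsFractionRing.injective B L)]
    exact hπB.ne_zero
  have hq0 : p ^ r ≠ 0 := pow_ne_zero _ hp.out.ne_zero
  have hϖlt : S.valuation ϖ₁ < 1 := by
    rw [← pow_lt_one_iff_of_nonneg zero_le hq0, hS1]
    exact hπlt
  have hϖ0 : ϖ₁ ≠ 0 := by
    intro h0
    rw [h0, map_zero, zero_pow hq0] at hS1
    exact (Valuation.ne_zero_iff _).mpr hgπ0 hS1.symm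
  obtain ⟨hN, hi⟩ := val_hyps S (n * p ^ n) hϖ0 hϖlt hS1 hS2
  have hϖS : ϖ₁ ∈ S := (S.valuation_le_one_iff _).mp hϖlt.le
  have hrel := rel_main (S := S) g hdom.1 ϖ₁ hs hN hϖS hϖ0 hi l c f hf hc
  obtain ⟨s', hs', η, hη⟩ := (mem_H p S).mp hrel
  -- the leading exponent is divisible by `p`
  obtain ⟨k, hk⟩ : ∃ k, n + r - f m₀ = k + 1 := ⟨n + r - f m₀ - 1, by omega⟩
  have hm₀pos : 1 ≤ m₀ := (mem_Mset.mp hm₀).1.1
  have hE : m₀ * p ^ (n + r - f m₀) = p * (m₀ * p ^ k) := by rw [hk, pow_succ]; ring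
  have hξ : algebraMap L L₁ ξ - (η ^ p - η) =
      ∑ m ∈ Mset p n, g (s (c m)) / ϖ₁ ^ (m * p ^ (n + r - f m)) + (s' + g b₀) := by
    have e1 : algebraMap L L₁ ξ = ∑ i ∈ Icc 1 n, g (s (l i)) / g (algebraMap A B π) ^ i + g b₀ := by
      conv_lhs => rw [hl]
      rw [map_add, map_sum]
      refine congrArg₂ (· + ·) (sum_congr rfl fun i _ => ?_) rfl
      rw [map_div₀, map_pow]
      rfl
    rw [e1]
    linear_combination hη
  refine fierce_core hp.out hle W (g (s (c m₀))) (hdom.1 _) ?_ ϖ₁ hϖlt (m₀ * p ^ k)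
    (Nat.mul_ne_zero (by omega) (pow_ne_zero _ hp.out.ne_zero)) (algebraMap L L₁ ξ) (algebraMap M M' z) ?_ η ?_
  · intro t htW
    obtain ⟨t₀, ht₀⟩ := K362.Stage.exists_residue ht W hWB (t : M') t.2 htW
    have h1 : W.valuation (algebraMap L M' (algebraMap B L t₀) ^ p - (t : M') ^ p) < 1 := by
      rw [← sub_pow_expChar, map_pow, Valuation.map_sub_swap]
      exact pow_lt_one₀ zero_le ht₀ hp.out.ne_zero
    have h2 : algebraMap L₁ M' (g (s (c m₀))) - algebraMap L₁ M' t ^ p =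
        algebraMap L M' (algebraMap B L (s (c m₀) - t₀ ^ p)) +
          (algebraMap L M' (algebraMap B L t₀) ^ p - (t : M') ^ p) := by
      rw [hgW, map_sub, map_sub, map_pow, map_pow]
      show _ - (t : M') ^ p = _
      ring
    have hu : IsUnit (s (c m₀) - t₀ ^ p) := by
      by_contra hcon
      have h3 : s (c m₀) - t₀ ^ p ∈ maximalIdeal B := (mem_maximalIdeal _).mpr hcon
      rw [← residue_eq_zero_iff, map_sub, hs.res, map_pow, sub_eq_zero] at h3
      exact hcm₀ _ h3.symm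
    have h4 : W.valuation (algebraMap L M' (algebraMap B L (s (c m₀) - t₀ ^ p))) = 1 :=
      Groth.Agent.Etalg.RamDVR.valuation_eq_one_of_isUnit hWB hu
    rw [h2, Valuation.map_add_eq_of_lt_left _ (by rw [h4]; exact h1), h4]
  · rw [← map_pow, ← map_sub, hz, ← IsScalarTower.algebraMap_apply, ← IsScalarTower.algebraMap_apply]
  · rw [hξ, ← hE]
    exact val_leading S ϖ₁ hϖ0 hϖlt (fun m => g (s (c m))) (fun m => hdom.1 _)
      (fun m => m * p ^ (n + r - f m)) (Mset p n) m₀ hm₀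
      (Nat.mul_pos (by omega) (pow_pos hp.out.pos _)) hmax (s' + g b₀) (add_mem hs' (hdom.1 _))

end Cases

end K362.ASFierce
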