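import Mathlib.RingTheory.Valuation.ValuationSubring
import Mathlib.RingTheory.LocalRing.ResidueField.Basic
import Mathlib.Data.Nat.Factorization.Basic
import Mathlib.Algebra.CharP.Lemmas
import Mathlib.Algebra.BigOperators.Field

/-!
# Artin–Schreier classes of Laurent tails

`F` is a field of characteristic `p`, `S` a valuation subring, `H = S + ℘(F)`.
-/

set_option autoImplicit false

open IsLocalRing Finset

namespace K362.ASRel

section Group

variable {F : Type*} [Field F] (p : ℕ) [hp : Fact p.Prime] [CharP F p] (S : ValuationSubring F)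

/-- `S + ℘(F)` -/
def H : AddSubgroup F where
  carrier := {x | ∃ s ∈ S, ∃ η : F, x = s + (η ^ p - η)}
  zero_mem' := ⟨0, S.zero_mem, 0, by rw [zero_pow hp.out.ne_zero]; ring⟩
  add_mem' := by
    rintro _ _ ⟨s, hs, η, rfl⟩ ⟨s', hs', η', rfl⟩
    refine ⟨s + s', add_mem hs hs', η + η', ?_⟩
    rw [add_pow_char]
    ring
  neg_mem' := by
    rintro _ ⟨s, hs, η, rfl⟩
    refine ⟨-s, neg_mem hs, -η, ?_⟩
    have h1 : (-η) ^ p = -(η ^ p) := by
      have := sub_pow_char (p := p) (0 : F) η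
      rwa [zero_sub, zero_pow hp.out.ne_zero, zero_sub] at this
    rw [h1]
    ring

theorem mem_H {x : F} : x ∈ H p S ↔ ∃ s ∈ S, ∃ η : F, x = s + (η ^ p - η) := Iff.rfl

theorem mem_H_of_mem {x : F} (hx : x ∈ S) : x ∈ H p S :=
  ⟨x, hx, 0, by rw [zero_pow hp.out.ne_zero]; ring⟩

theorem pow_sub_mem (x : F) : x ^ p - x ∈ H p S := ⟨0, S.zero_mem, x, by ring⟩

theorem pow_pow_sub_mem (x : F) (e : ℕ) : x ^ p ^ e - x ∈ H p S := by
  induction e with
  | zero => rw [pow_zero, pow_one, sub_self]; exact zero_mem _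
  | succ e ih =>
    have h1 := pow_sub_mem p S (x ^ p ^ e)
    have h2 := add_mem h1 ih
    rwa [sub_add_sub_cancel, ← pow_mul, ← pow_succ] at h2

theorem trans {x y z : F} (h1 : x - y ∈ H p S) (h2 : y - z ∈ H p S) : x - z ∈ H p S := by
  have := add_mem h1 h2
  rwa [sub_add_sub_cancel] at this

theorem symm {x y : F} (h1 : x - y ∈ H p S) : y - x ∈ H p S := by
  have := neg_mem h1
  rwa [neg_sub] at this

theorem sum_sub_sum {ι : Type*} (s : Finset ι) (f g : ι → F) (h : ∀ i ∈ s, f i - g i ∈ H p S) :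
    ∑ i ∈ s, f i - ∑ i ∈ s, g i ∈ H p S := by
  rw [← sum_sub_distrib]
  exact sum_mem h

end Group

/-- A set theoretic section of the residue map, a ring homomorphism modulo `π ^ N`. -/
structure Sec (B : Type*) [CommRing B] [IsLocalRing B] (π : B) (N : ℕ) (s : ResidueField B → B) : Prop where
  res : ∀ x, residue B (s x) = x
  add : ∀ x y, π ^ N ∣ s (x + y) - (s x + s y)
  pow : ∀ x (k : ℕ), π ^ N ∣ s (x ^ k) - s x ^ k

namespace Sec

variable {B : Type*} [CommRing B] [IsLocalRing B] {π : B} {N : ℕ} {s : ResidueField B → B} (hs : Sec B π N s)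

include hs

theorem zero : π ^ N ∣ s 0 := by
  have h := hs.add 0 0
  rw [add_zero, sub_add_cancel_left, dvd_neg] at h
  exact h

theorem sum {ι : Type*} (t : Finset ι) (f : ι → ResidueField B) :
    π ^ N ∣ s (∑ i ∈ t, f i) - ∑ i ∈ t, s (f i) := by
  classical
  induction t using Finset.induction_on with
  | empty => simpa using hs.zero
  | insert a t ha ih =>
    rw [sum_insert ha, sum_insert ha]
    have h := dvd_add (hs.add (f a) (∑ i ∈ t, f i)) ih
    have e : s (f a + ∑ i ∈ t, f i) - (s (f a) + s (∑ i ∈ t, f i)) + (s (∑ i ∈ t, f i) - ∑ i ∈ t, s (f i)) =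
      s (f a + ∑ i ∈ t, f i) - (s (f a) + ∑ i ∈ t, s (f i)) := by ring
    rwa [e] at h

end Sec

section Expansion

variable {B : Type*} [CommRing B] [IsLocalRing B] {π : B} {s : ResidueField B → B}

/-- `π`-adic expansions -/
theorem expansion (hπ : maximalIdeal B = Ideal.span {π}) (hs : ∀ x, residue B (s x) = x) (b : B) (n : ℕ) :
    ∃ (l : ℕ → ResidueField B) (b' : B), b = ∑ i ∈ range n, s (l i) * π ^ i + b' * π ^ n := by
  classical
  induction n with
  | zero => exact ⟨fun _ => 0, b, by simp⟩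
  | succ n ih =>
    obtain ⟨l, b', hb⟩ := ih
    have h1 : b' - s (residue B b') ∈ maximalIdeal B := by
      rw [← residue_eq_zero_iff, map_sub, hs, sub_self]
    rw [hπ, Ideal.mem_span_singleton] at h1
    obtain ⟨b'', hb''⟩ := h1
    refine ⟨Function.update l n (residue B b'), b'', ?_⟩
    rw [sum_range_succ, Function.update_self]
    have h2 : ∑ i ∈ range n, s (Function.update l n (residue B b') i) * π ^ i = ∑ i ∈ range n, s (l i) * π ^ i := by
      refine sum_congr rfl fun i hi => ?_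
      rw [Function.update_of_ne (mem_range.mp hi).ne]
    rw [h2]
    conv_lhs => rw [hb]
    have h3 : b' = s (residue B b') + π * b'' := by rw [← hb'']; ring
    conv_lhs => rw [h3]
    ring

end Expansion

section Main

variable {F : Type*} [Field F] {p : ℕ} [hp : Fact p.Prime] [CharP F p] {S : ValuationSubring F}
  {B : Type*} [CommRing B] [IsLocalRing B] {π : B} {s : ResidueField B → B} {N : ℕ}
  (g : B →+* F) (hg : ∀ b, g b ∈ S) (ϖ : F) {q : ℕ}

omit [IsLocalRing B] in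
include hg in
/-- elements of `π ^ N` are divisible by `ϖ ^ j` -/
theorem div_mem (hϖ : g π ^ N / ϖ ^ (N * q) ∈ S) (hϖS : ϖ ∈ S) (hϖ0 : ϖ ≠ 0) {b : B} (hb : π ^ N ∣ b) {j : ℕ}
    (hj : j ≤ N * q) : g b / ϖ ^ j ∈ S := by
  obtain ⟨c, rfl⟩ := hb
  have h1 : g (π ^ N * c) / ϖ ^ j = g c * (g π ^ N / ϖ ^ (N * q)) * ϖ ^ (N * q - j) := by
    rw [map_mul, map_pow]
    have h2 : ϖ ^ (N * q) = ϖ ^ j * ϖ ^ (N * q - j) := by rw [← pow_add, Nat.add_sub_cancel' hj]
    rw [h2]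
    have h3 : ϖ ^ j ≠ 0 := pow_ne_zero _ hϖ0
    have h4 : ϖ ^ (N * q - j) ≠ 0 := pow_ne_zero _ hϖ0
    field_simp
  rw [h1]
  exact mul_mem (mul_mem (hg c) hϖ) (pow_mem hϖS _)

variable (hs : Sec B π N s) (hϖ : g π ^ N / ϖ ^ (N * q) ∈ S) (hϖS : ϖ ∈ S) (hϖ0 : ϖ ≠ 0)

include hg hs hϖ hϖS hϖ0

/-- `T_{j p ^ f} (μ ^ {p ^ f}) ~ T_j (μ)` -/
theorem rel_pow (μ : ResidueField B) (j f : ℕ) (hj : j * p ^ f ≤ N * q) :
    g (s (μ ^ p ^ f)) / ϖ ^ (j * p ^ f) - g (s μ) / ϖ ^ j ∈ H p S := by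
  have h1 : g (s (μ ^ p ^ f)) / ϖ ^ (j * p ^ f) - (g (s μ) / ϖ ^ j) ^ p ^ f ∈ S := by
    have h2 := div_mem g hg ϖ hϖ hϖS hϖ0 (hs.pow μ (p ^ f)) hj
    rwa [map_sub, map_pow, sub_div, pow_mul, ← div_pow, ← pow_mul] at h2
  exact trans p S (mem_H_of_mem p S h1) (pow_pow_sub_mem p S _ f)

theorem rel_sum {ι : Type*} (t : Finset ι) (f : ι → ResidueField B) (j : ℕ) (hj : j ≤ N * q) :
    g (s (∑ i ∈ t, f i)) / ϖ ^ j - ∑ i ∈ t, g (s (f i)) / ϖ ^ j ∈ H p S := by
  apply mem_H_of_mem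
  have h2 := div_mem g hg ϖ hϖ hϖS hϖ0 (hs.sum t f) hj
  rwa [map_sub, map_sum, sub_div, sum_div] at h2

end Main

section Group

variable {κ : Type*} [Field κ] (p n : ℕ) (l : ℕ → κ)

/-- the prime-to-`p` numbers between `1` and `n` -/
def Mset : Finset ℕ := (Icc 1 n).filter (fun m => ¬ p ∣ m)

/-- the grouped coefficients -/
noncomputable def D (m : ℕ) : κ :=
  ∑ i ∈ (Icc 1 n).filter (fun i => i / p ^ (i.factorization p) = m), l i ^ p ^ (n - i.factorization p)

variable {p n}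

theorem mem_Mset {m : ℕ} : m ∈ Mset p n ↔ (1 ≤ m ∧ m ≤ n) ∧ ¬ p ∣ m := by
  rw [Mset, mem_filter, mem_Icc]

theorem map_to (hp : p.Prime) : ∀ i ∈ Icc 1 n, i / p ^ (i.factorization p) ∈ Mset p n := by
  intro i hi
  rw [mem_Icc] at hi
  have hi0 : i ≠ 0 := by omega
  rw [mem_Mset]
  exact ⟨⟨Nat.ordCompl_pos p hi0, (Nat.ordCompl_le i p).trans hi.2⟩, Nat.not_dvd_ordCompl hp hi0⟩

end Group

section Main2

variable {F : Type*} [Field F] {p : ℕ} [hp : Fact p.Prime] [CharP F p] {S : ValuationSubring F}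
  {B : Type*} [CommRing B] [IsLocalRing B] {π : B} {s : ResidueField B → B} {n r : ℕ}
  (g : B →+* F) (hg : ∀ b, g b ∈ S) (ϖ : F)
  (hs : Sec B π (n * p ^ n) s) (hϖ : g π ^ (n * p ^ n) / ϖ ^ (n * p ^ n * p ^ r) ∈ S) (hϖS : ϖ ∈ S) (hϖ0 : ϖ ≠ 0)
  (hϖi : ∀ i ∈ Icc 1 n, 1 / g π ^ i - 1 / ϖ ^ (i * p ^ r) ∈ S)

include hg hs hϖ hϖS hϖ0 hϖi

/-- Any Laurent tail is equivalent to the grouped one. -/
theorem rel_grouped (l : ℕ → ResidueField B) :
    ∑ i ∈ Icc 1 n, g (s (l i)) / g π ^ i - ∑ m ∈ Mset p n, g (s (D p n l m)) / ϖ ^ (m * p ^ n * p ^ r) ∈ H p S := by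
  -- replace `π ^ i` by `ϖ ^ (i * q)`
  have h1 : ∑ i ∈ Icc 1 n, g (s (l i)) / g π ^ i - ∑ i ∈ Icc 1 n, g (s (l i)) / ϖ ^ (i * p ^ r) ∈ H p S := by
    refine sum_sub_sum p S _ _ _ fun i hi => mem_H_of_mem p S ?_
    have := mul_mem (hg (s (l i))) (hϖi i hi)
    rwa [mul_sub, mul_one_div, mul_one_div] at this
  refine trans p S h1 ?_
  -- replace `i` by `m p ^ n`
  have h2 : ∑ i ∈ Icc 1 n, g (s (l i)) / ϖ ^ (i * p ^ r) - ∑ i ∈ Icc 1 n,
      g (s (l i ^ p ^ (n - i.factorization p))) / ϖ ^ (i / p ^ (i.factorization p) * p ^ n * p ^ r) ∈ H p S := by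
    refine sum_sub_sum p S _ _ _ fun i hi => symm p S ?_
    rw [mem_Icc] at hi
    have hi0 : i ≠ 0 := by omega
    have hk : i.factorization p ≤ n := (Nat.factorization_lt p hi0).le.trans hi.2
    have he : i / p ^ (i.factorization p) * p ^ n * p ^ r = (i * p ^ r) * p ^ (n - i.factorization p) := by
      have h3 := Nat.ordProj_mul_ordCompl_eq_self i p
      calc _ = i / p ^ (i.factorization p) * (p ^ (i.factorization p) * p ^ (n - i.factorization p)) * p ^ r := by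
            rw [← pow_add, Nat.add_sub_cancel' hk]
        _ = (p ^ (i.factorization p) * (i / p ^ (i.factorization p))) * p ^ (n - i.factorization p) * p ^ r := by ring
        _ = _ := by rw [h3]; ring
    rw [he]
    refine rel_pow g hg ϖ hs hϖ hϖS hϖ0 (l i) (i * p ^ r) (n - i.factorization p) ?_
    rw [← he]
    have h4 : i / p ^ (i.factorization p) ≤ n := (Nat.ordCompl_le i p).trans hi.2
    exact Nat.mul_le_mul_right _ (Nat.mul_le_mul_right _ h4)
  refine trans p S h2 ?_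
  -- group
  rw [← sum_fiberwise_of_maps_to (map_to hp.out) (f := fun i =>
    g (s (l i ^ p ^ (n - i.factorization p))) / ϖ ^ (i / p ^ (i.factorization p) * p ^ n * p ^ r))]
  refine sum_sub_sum p S _ _ _ fun m hm => symm p S ?_
  rw [mem_Mset] at hm
  have h5 := rel_sum g hg ϖ hs hϖ hϖS hϖ0 ((Icc 1 n).filter (fun i => i / p ^ (i.factorization p) = m))
    (fun i => l i ^ p ^ (n - i.factorization p)) (m * p ^ n * p ^ r)
    (Nat.mul_le_mul_right _ (Nat.mul_le_mul_right _ hm.1.2))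
  have h6 : ∑ i ∈ (Icc 1 n).filter (fun i => i / p ^ (i.factorization p) = m),
      g (s (l i ^ p ^ (n - i.factorization p))) / ϖ ^ (i / p ^ (i.factorization p) * p ^ n * p ^ r) =
      ∑ i ∈ (Icc 1 n).filter (fun i => i / p ^ (i.factorization p) = m),
      g (s (l i ^ p ^ (n - i.factorization p))) / ϖ ^ (m * p ^ n * p ^ r) := by
    refine sum_congr rfl fun i hi => ?_
    rw [mem_filter] at hi
    rw [hi.2]
  rw [h6]
  exact h5

theorem rel_main (l : ℕ → ResidueField B) (c : ℕ → ResidueField B) (f : ℕ → ℕ)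
    (hf : ∀ m ∈ Mset p n, f m ≤ n + r) (hc : ∀ m ∈ Mset p n, c m ^ p ^ f m = D p n l m) :
    ∑ i ∈ Icc 1 n, g (s (l i)) / g π ^ i - ∑ m ∈ Mset p n, g (s (c m)) / ϖ ^ (m * p ^ (n + r - f m)) ∈ H p S := by
  refine trans p S (rel_grouped g hg ϖ hs hϖ hϖS hϖ0 hϖi l) ?_
  refine sum_sub_sum p S _ _ _ fun m hm => ?_
  have he : m * p ^ n * p ^ r = m * p ^ (n + r - f m) * p ^ f m := by
    rw [mul_assoc, mul_assoc, ← pow_add, ← pow_add, Nat.sub_add_cancel (hf m hm)]
  rw [← hc m hm, he]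
  refine rel_pow g hg ϖ hs hϖ hϖS hϖ0 (c m) (m * p ^ (n + r - f m)) (f m) ?_
  rw [← he]
  rw [mem_Mset] at hm
  exact Nat.mul_le_mul_right _ (Nat.mul_le_mul_right _ hm.1.2)

end Main2

end K362.ASRel
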