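import Groth.Agent.Etalg.DVRExt
import Groth.Agent.Etalg.PerfHull
import Mathlib.RingTheory.LocalRing.ResidueField.Basic

/-!
# Finiteness of the residue field extension of an extension of discrete valuation rings with finite fraction field
extension
-/

set_option autoImplicit false
universe u

namespace K362.FiniteRes

open IsLocalRing

theorem finite_residue (A C K M : Type u) [CommRing A] [IsDomain A] [IsDiscreteValuationRing A]
    [CommRing C] [IsDomain C] [IsLocalRing C] [Algebra A C] [IsLocalHom (algebraMap A C)]
    [Field K] [Algebra A K] [IsFractionRing A K] [Field M] [Algebra K M] [FiniteDimensional K M] [Algebra A M]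
    [IsScalarTower A K M] [Algebra C M] [IsFractionRing C M] [IsScalarTower A C M] :
    Module.Finite (ResidueField A) (ResidueField C) := by
  obtain ⟨s, hs⟩ := Groth.Agent.Etalg.DVRExt.exists_finset_span_sup A K (IsScalarTower.toAlgHom A C M).toLinearMap
    (IsFractionRing.injective C M)
  have hfin : Module.Finite A (ResidueField C) := by
    classical
    refine ⟨s.image (residue C), ?_⟩
    rw [eq_top_iff]
    intro z _
    obtain ⟨v, rfl⟩ := residue_surjective z
    have hv : v ∈ Submodule.span A (s : Set C) ⊔ (maximalIdeal A) • (⊤ : Submodule A C) := by rw [hs]; trivial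
    rw [Submodule.mem_sup] at hv
    obtain ⟨a, ha, b, hb, rfl⟩ := hv
    have hb0 : residue C b = 0 := by
      rw [residue_eq_zero_iff]
      refine Submodule.smul_induction_on hb ?_ ?_
      · intro r hr n _
        rw [Algebra.smul_def]
        apply Ideal.mul_mem_right
        intro hu
        exact hr ((inferInstance : IsLocalHom (algebraMap A C)).map_nonunit r hu)
      · intro x y hx hy
        exact Ideal.add_mem _ hx hy
    rw [map_add, hb0, add_zero]
    let ρ : C →ₗ[A] ResidueField C := (IsScalarTower.toAlgHom A C (ResidueField C)).toLinearMap
    have h1 := Submodule.mem_map_of_mem (f := ρ) ha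
    rw [Submodule.map_span] at h1
    rw [Finset.coe_image]
    exact h1
  exact Module.Finite.of_restrictScalars_finite A (ResidueField A) (ResidueField C)

end K362.FiniteRes
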