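import Groth.Agent.Etalg.RamRed
import Groth.Agent.Etalg.RamBasic
import Groth.Agent.EtAlg.K362.TotRam
import Mathlib.FieldTheory.PurelyInseparable.Basic
import Mathlib.RingTheory.TensorProduct.Basic

/-!
# Purely inseparable extensions of degree `p` of the fraction field of a DVR
-/

set_option autoImplicit false
universe u

namespace K362.Insep

open IsLocalRing EtRam Groth.Agent.Etalg.RamBasic TensorProduct

section Field

variable {L M : Type u} [Field L] [Field M] [Algebra L M]

theorem charP_of_insep {p : ℕ} (hp : p.Prime) [IsPurelyInseparable L M] (hdeg : Module.finrank L M = p) :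
    CharP L p := by
  have hfin : FiniteDimensional L M := Module.finite_of_finrank_pos (by rw [hdeg]; exact hp.pos)
  obtain ⟨q, hq⟩ := ExpChar.exists L
  -- there is an element outside of `L`
  have hx : ∃ x : M, x ∉ Set.range (algebraMap L M) := by
    by_contra hcon
    push Not at hcon
    have h1 : Module.finrank L M = 1 := by
      have hb : Function.Bijective (algebraMap L M) := ⟨(algebraMap L M).injective, hcon⟩
      rw [← (LinearEquiv.ofBijective (Algebra.linearMap L M) hb).finrank_eq, Module.finrank_self]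
    rw [hdeg] at h1
    exact hp.ne_one h1
  obtain ⟨x, hx⟩ := hx
  obtain ⟨n, y, hy⟩ := IsPurelyInseparable.minpoly_eq_X_pow_sub_C L q x
  have hd : (minpoly L x).natDegree ∣ p := by
    rw [← hdeg]; exact minpoly.degree_dvd (Algebra.IsIntegral.isIntegral x)
  rw [hy, Polynomial.natDegree_X_pow_sub_C] at hd
  have hne : q ^ n ≠ 1 := by
    intro h
    rw [h, pow_one] at hy
    apply hx
    have h2 := minpoly.aeval L x
    rw [hy, map_sub, Polynomial.aeval_X, Polynomial.aeval_C] at h2
    exact ⟨y, (sub_eq_zero.mp h2).symm⟩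
  have hqn : q ^ n = p := ((Nat.dvd_prime hp).mp hd).resolve_left hne
  have hqp : q = p := by
    have hn : n ≠ 0 := by rintro rfl; exact hne (pow_zero _)
    have h3 : q ∣ p := by rw [← hqn]; exact dvd_pow_self q hn
    refine ((Nat.dvd_prime hp).mp h3).resolve_left ?_
    rintro rfl
    exact hne (one_pow n)
  subst hqp
  cases hq with
  | zero => exact absurd rfl hp.ne_one
  | prime _ => assumption

theorem exists_pow {p : ℕ} (hp : p.Prime) [CharP L p] [IsPurelyInseparable L M] (hdeg : Module.finrank L M = p)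
    (x : M) : ∃ y : L, algebraMap L M y = x ^ p := by
  have hfin : FiniteDimensional L M := Module.finite_of_finrank_pos (by rw [hdeg]; exact hp.pos)
  have hexp : ExpChar L p := ExpChar.prime hp
  obtain ⟨n, y, hy⟩ := IsPurelyInseparable.minpoly_eq_X_pow_sub_C L p x
  have hd : (minpoly L x).natDegree ∣ p := by
    rw [← hdeg]; exact minpoly.degree_dvd (Algebra.IsIntegral.isIntegral x)
  rw [hy, Polynomial.natDegree_X_pow_sub_C] at hd
  have h2 := minpoly.aeval L x
  rw [hy, map_sub, map_pow, Polynomial.aeval_X, Polynomial.aeval_C, sub_eq_zero] at h2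
  have hn : n ≤ 1 := by
    have := Nat.le_of_dvd hp.pos hd
    by_contra hcon
    have h3 : p ^ 2 ≤ p ^ n := Nat.pow_le_pow_right hp.pos (by omega)
    have h4 : p < p ^ 2 := by
      rw [pow_two]
      exact (lt_mul_iff_one_lt_left hp.pos).mpr hp.one_lt
    omega
  interval_cases n
  · rw [pow_zero, pow_one] at h2
    exact ⟨y ^ p, by rw [map_pow, ← h2]⟩
  · rw [pow_one] at h2
    exact ⟨y, h2.symm⟩

theorem isField_tensor {K K₁ : Type u} [Field K] [Field K₁] [Algebra K L] [Algebra K M] [IsScalarTower K L M]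
    [Algebra K K₁] [FiniteDimensional K K₁] [Algebra.IsSeparable K K₁] {p : ℕ} (hp : p.Prime) [CharP K p]
    (hpow : ∀ x : M, ∃ y : L, algebraMap L M y = x ^ p) (hL : IsField (L ⊗[K] K₁)) : IsField (M ⊗[K] K₁) := by
  have hred : IsReduced (M ⊗[K] K₁) := Groth.Agent.Etalg.RamRed.isReduced_tensor_of_finite_separable
  let j : L ⊗[K] K₁ →ₐ[K] M ⊗[K] K₁ :=
    Algebra.TensorProduct.map (IsScalarTower.toAlgHom K L M) (AlgHom.id K K₁)
  have hnt : Nontrivial (M ⊗[K] K₁) :=
    (Algebra.TensorProduct.includeLeft_injective (S := K) (A := M) (B := K₁)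
      (algebraMap K K₁).injective).nontrivial
  have hfact : Fact p.Prime := ⟨hp⟩
  have hch : CharP (M ⊗[K] K₁) p :=
    charP_of_injective_algebraMap (algebraMap K (M ⊗[K] K₁)).injective p
  have hexp : ExpChar (M ⊗[K] K₁) p := ExpChar.prime hp
  have key : ∀ z : M ⊗[K] K₁, ∃ w, j w = z ^ p := by
    intro z
    induction z with
    | zero => exact ⟨0, by rw [map_zero, zero_pow hp.ne_zero]⟩
    | tmul x y =>
      obtain ⟨l, hl⟩ := hpow x
      refine ⟨l ⊗ₜ (y ^ p), ?_⟩
      rw [Algebra.TensorProduct.tmul_pow, ← hl]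
      rfl
    | add x y hx hy =>
      obtain ⟨a, ha⟩ := hx
      obtain ⟨b, hb⟩ := hy
      exact ⟨a + b, by rw [map_add, ha, hb, add_pow_expChar]⟩
  refine ⟨⟨0, 1, zero_ne_one⟩, mul_comm, fun {z} hz => ?_⟩
  obtain ⟨w, hw⟩ := key z
  have hw0 : w ≠ 0 := by
    rintro rfl
    rw [map_zero] at hw
    exact hz (pow_eq_zero_iff hp.ne_zero |>.mp hw.symm)
  obtain ⟨w', hw'⟩ := hL.mul_inv_cancel hw0
  refine ⟨z ^ (p - 1) * j w', ?_⟩
  rw [← mul_assoc, ← pow_succ', Nat.sub_add_cancel hp.one_lt.le, ← hw, ← map_mul, hw', map_one]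

end Field

section Dichotomy

variable {B C L M : Type u} [CommRing B] [IsDomain B] [IsDiscreteValuationRing B]
    [CommRing C] [IsDomain C] [IsDiscreteValuationRing C] [Algebra B C] [IsLocalHom (algebraMap B C)]
    [Field L] [Field M] [Algebra L M] [Algebra B L] [IsFractionRing B L] [Algebra C M] [IsFractionRing C M]
    [Algebra B M] [IsScalarTower B L M] [IsScalarTower B C M]

theorem dichotomy {p : ℕ} (hp : p.Prime) (hpow : ∀ x : M, ∃ y : L, algebraMap L M y = x ^ p) {π : B}
    (hπ : Irreducible π) : Irreducible (algebraMap B C π) ∨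
      ∃ (c : C) (u : Bˣ), Irreducible c ∧ c ^ p = algebraMap B C (u * π) := by
  obtain ⟨c, hc⟩ := IsDiscreteValuationRing.exists_irreducible C
  have hinjBM : Function.Injective (algebraMap B M) := by
    rw [IsScalarTower.algebraMap_eq B L M]
    exact (algebraMap L M).injective.comp (IsFractionRing.injective B L)
  have hinjCM : Function.Injective (algebraMap C M) := IsFractionRing.injective C M
  have hπ0 : algebraMap B C π ≠ 0 := by
    intro h0
    apply hπ.ne_zero
    apply hinjBM
    rw [IsScalarTower.algebraMap_apply B C M, h0, map_zero, map_zero]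
  have hπu : ¬ IsUnit (algebraMap B C π) := fun h => hπ.not_isUnit (IsLocalHom.map_nonunit π h)
  obtain ⟨e, v, hev⟩ := IsDiscreteValuationRing.eq_unit_mul_pow_irreducible hπ0 hc
  obtain ⟨y, hy⟩ := hpow (algebraMap C M c)
  have hcM : algebraMap C M c ≠ 0 := by
    rw [Ne, map_eq_zero_iff _ hinjCM]; exact hc.ne_zero
  have hy0 : y ≠ 0 := by
    rintro rfl
    rw [map_zero] at hy
    exact pow_ne_zero p hcM hy.symm
  obtain ⟨k, u, hk⟩ := IsDiscreteValuationRing.exists_units_eq_smul_zpow_of_irreducible hπ hy0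
  -- values
  let V : ValuationSubring M := vsub C M
  have hVc : V.valuation (algebraMap C M c) < 1 :=
    (vsub_valuation_lt_one_iff C M c).mpr ((mem_maximalIdeal c).mpr hc.not_isUnit)
  have hVc0 : 0 < V.valuation (algebraMap C M c) := by rw [zero_lt_iff, Valuation.ne_zero_iff]; exact hcM
  have hVu : ∀ w : C, IsUnit w → V.valuation (algebraMap C M w) = 1 := fun w hw =>
    Groth.Agent.Etalg.RamDVR.valuation_eq_one_of_isUnit (dominates_vsub C M) hw
  have hVuB : V.valuation (algebraMap L M (algebraMap B L u)) = 1 := by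
    rw [← IsScalarTower.algebraMap_apply B L M, IsScalarTower.algebraMap_apply B C M]
    exact hVu _ (u.isUnit.map _)
  have hVπ : V.valuation (algebraMap L M (algebraMap B L π)) = V.valuation (algebraMap C M c) ^ e := by
    rw [← IsScalarTower.algebraMap_apply B L M, IsScalarTower.algebraMap_apply B C M, hev, map_mul, map_mul,
      hVu _ v.isUnit, one_mul, map_pow, map_pow]
  have h1 : V.valuation (algebraMap C M c) ^ (p : ℤ) = V.valuation (algebraMap C M c) ^ ((e : ℤ) * k) := by
    rw [zpow_natCast, ← map_pow, ← hy, hk, Units.smul_def, Algebra.smul_def, map_mul, map_mul, map_zpow₀,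
      map_zpow₀, hVuB, one_mul, hVπ, zpow_mul, zpow_natCast]
  have h2 : (p : ℤ) = (e : ℤ) * k := (zpow_right_strictAnti₀ hVc0 hVc).injective h1
  have h3 : e ∣ p := by
    have : (e : ℤ) ∣ (p : ℤ) := ⟨k, h2⟩
    exact_mod_cast this
  rcases (Nat.dvd_prime hp).mp h3 with he | he
  · left
    rw [hev, he, pow_one]
    exact (irreducible_units_mul v).mpr hc
  · right
    refine ⟨c, u, hc, ?_⟩
    have hk1 : k = 1 := by
      rw [he] at h2
      have hp0 : (p : ℤ) ≠ 0 := by exact_mod_cast hp.ne_zero
      have : (p : ℤ) * k = p * 1 := by rw [← h2, mul_one]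
      exact mul_left_cancel₀ hp0 this
    apply hinjCM
    rw [map_pow, ← hy, hk, hk1, zpow_one, Units.smul_def, Algebra.smul_def, map_mul, map_mul,
      ← IsScalarTower.algebraMap_apply B L M, ← IsScalarTower.algebraMap_apply B L M, map_mul,
      IsScalarTower.algebraMap_apply B C M, IsScalarTower.algebraMap_apply B C M]

end Dichotomy

end K362.Insep
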