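import Groth.Agent.EtAlg.K362.NagRoot
import Groth.Agent.EtAlg.K362.Insep
import Mathlib.FieldTheory.IsAlgClosed.AlgebraicClosure

/-!
# Purely inseparable extensions of degree `p`: the limit case

If `c ^ p = u π` and `u` is a `p`-th power "to all orders" then `M = L(π ^ (1 / p))`.
-/

set_option autoImplicit false
universe u

namespace K362.InsepLim

open IsLocalRing EtRam Groth.Agent.Etalg.RamBasic IntermediateField Groth.Agent.Etalg2.H529
  Groth.Agent.Etalg2.H529.OneLevel

variable {B C L M : Type u} [CommRing B] [IsDomain B] [IsDiscreteValuationRing B]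
    [CommRing C] [IsDomain C] [IsDiscreteValuationRing C] [Algebra B C] [IsLocalHom (algebraMap B C)]
    [Field L] [Field M] [Algebra L M] [Algebra B L] [IsFractionRing B L] [Algebra C M] [IsFractionRing C M]
    [Algebra B M] [IsScalarTower B L M] [IsScalarTower B C M]

omit [IsFractionRing B L] in
variable (B C L M) in
theorem dominates_vsub' : Dominates B ((algebraMap L M).comp (algebraMap B L)) (vsub C M) := by
  have h1 : (algebraMap L M).comp (algebraMap B L) = (algebraMap C M).comp (algebraMap B C) := by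
    rw [← IsScalarTower.algebraMap_eq, ← IsScalarTower.algebraMap_eq]
  rw [h1]
  have hW := dominates_vsub C M
  refine ⟨fun a => hW.1 _, fun a ha => hW.2 _ ?_⟩
  exact (((local_hom_TFAE (algebraMap B C)).out 0 2 rfl rfl).mp ‹_›) (Ideal.mem_map_of_mem _ ha)

/-- `C = B[c]` if `c ^ n = π` and `[M : L] ≤ n`. -/
theorem adjoin_eq_top {n : ℕ} (hn : n ≠ 0) [FiniteDimensional L M] (hdeg : Module.finrank L M ≤ n) {π : B}
    (hπ : Irreducible π) (c : C) (hc : c ^ n = algebraMap B C π) : Algebra.adjoin B {c} = ⊤ := by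
  classical
  let V : ValuationSubring M := vsub C M
  have hV : Dominates B ((algebraMap L M).comp (algebraMap B L)) V := dominates_vsub' B C L M
  let y : M := algebraMap C M c
  have hy : V.valuation y ^ n = V.valuation (algebraMap L M (algebraMap B L π)) := by
    rw [← map_pow, ← map_pow, hc, ← IsScalarTower.algebraMap_apply, ← IsScalarTower.algebraMap_apply]
  have hli := K362.TotRam.linearIndependent (K := L) hπ hn hV hy
  have hfr : Module.finrank L M = n := by
    refine le_antisymm hdeg ?_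
    have := hli.fintype_card_le_finrank
    rwa [Fintype.card_fin] at this
  have hne : Nonempty (Fin n) := ⟨⟨0, Nat.pos_of_ne_zero hn⟩⟩
  let b := basisOfLinearIndependentOfCardEqFinrank hli (by rw [Fintype.card_fin, hfr])
  rw [eq_top_iff]
  intro x _
  -- the coefficients
  have hx : algebraMap C M x = ∑ i : Fin n, algebraMap L M (b.repr (algebraMap C M x) i) * y ^ (i : ℕ) := by
    conv_lhs => rw [← b.sum_repr (algebraMap C M x)]
    refine Finset.sum_congr rfl fun i _ => ?_
    rw [Algebra.smul_def, coe_basisOfLinearIndependentOfCardEqFinrank]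
  have hle : ∀ i, V.valuation (algebraMap L M (b.repr (algebraMap C M x) i) * y ^ (i : ℕ)) ≤ 1 := by
    intro i
    refine (K362.TotRam.le_sum_of_distinct V.valuation Finset.univ
      (fun i : Fin n => algebraMap L M (b.repr (algebraMap C M x) i) * y ^ (i : ℕ))
      (fun i _ j _ hij h0 => K362.TotRam.distinct hπ hV hy _ i j hij h0) i (Finset.mem_univ i)).trans ?_
    rw [← hx]
    exact (V.valuation_le_one_iff _).mpr ⟨x, rfl⟩
  have hcoef : ∀ i, ∃ a : B, algebraMap B L a = b.repr (algebraMap C M x) i := by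
    intro i
    rcases eq_or_ne (b.repr (algebraMap C M x) i) 0 with h0 | h0
    · exact ⟨0, by rw [h0, map_zero]⟩
    apply K362.TotRam.exists_of_valuation_le_one hV
    obtain ⟨k, hk⟩ := K362.TotRam.exists_exponent (L := M) hπ (b.repr (algebraMap C M x) i) h0
    have h2 := K362.TotRam.pow_val k (b.repr (algebraMap C M x) i) hπ (hk V hV) hy i
    have hanti := zpow_right_strictAnti₀ (K362.TotRam.valuation_uniformizer_pos (K := L) hπ V)
      (K362.TotRam.valuation_uniformizer_lt hπ hV)
    have h3 := pow_le_one₀ (n := n) zero_le (hle i)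
    rw [h2, ← zpow_zero (V.valuation (algebraMap L M (algebraMap B L π))), hanti.le_iff_ge] at h3
    rw [hk V hV, ← zpow_zero (V.valuation (algebraMap L M (algebraMap B L π))), hanti.le_iff_ge]
    by_contra hcon
    push Not at hcon
    have hi := i.2
    nlinarith
  choose a ha using hcoef
  have hx' : x = ∑ i : Fin n, algebraMap B C (a i) * c ^ (i : ℕ) := by
    apply IsFractionRing.injective C M
    rw [hx, map_sum]
    refine Finset.sum_congr rfl fun i _ => ?_
    rw [← ha, ← IsScalarTower.algebraMap_apply, IsScalarTower.algebraMap_apply B C M, map_mul, map_pow]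
  rw [hx']
  refine sum_mem fun i _ => mul_mem (Subalgebra.algebraMap_mem _ _) (pow_mem ?_ _)
  exact Algebra.subset_adjoin rfl

omit [IsDomain B] [IsLocalHom (algebraMap B C)] [Algebra B M] [IsScalarTower B L M] [IsScalarTower B C M]
  [Algebra B C] [Algebra C M] [IsFractionRing C M] [IsDomain C] [IsDiscreteValuationRing C] [CommRing C] in
theorem finrank_adjoin_le {n : ℕ} (hn : n ≠ 0) {Ω : Type u} [Field Ω] [Algebra L Ω] (ϖ : Ω) (a : L)
    (h : ϖ ^ n = algebraMap L Ω a) : FiniteDimensional L (adjoin L {ϖ}) ∧ Module.finrank L (adjoin L {ϖ}) ≤ n := by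
  have h1 : Polynomial.aeval ϖ (Polynomial.X ^ n - Polynomial.C a) = 0 := by
    rw [map_sub, map_pow, Polynomial.aeval_X, Polynomial.aeval_C, h, sub_self]
  have hmon : (Polynomial.X ^ n - Polynomial.C a).Monic := Polynomial.monic_X_pow_sub_C a hn
  have hint : IsIntegral L ϖ := ⟨_, hmon, h1⟩
  refine ⟨adjoin.finiteDimensional hint, ?_⟩
  rw [adjoin.finrank hint]
  refine (Polynomial.natDegree_le_of_dvd (minpoly.dvd _ _ h1) hmon.ne_zero).trans ?_
  rw [Polynomial.natDegree_X_pow_sub_C]

omit [Algebra B M] [IsScalarTower B L M] in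
/-- An element of value `1 / p` of an extension of degree `p` generates. -/
theorem natDegree_minpoly {p : ℕ} (hp : p.Prime) (hdeg : Module.finrank L M = p) {π : B} (hπ : Irreducible π)
    {V : ValuationSubring M} (hV : Dominates B ((algebraMap L M).comp (algebraMap B L)) V) (y : M)
    (hy : V.valuation y ^ p = V.valuation (algebraMap L M (algebraMap B L π))) :
    (minpoly L y).natDegree = p := by
  have hfin : FiniteDimensional L M := Module.finite_of_finrank_pos (by rw [hdeg]; exact hp.pos)
  have hyint : IsIntegral L y := Algebra.IsIntegral.isIntegral y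
  refine ((Nat.dvd_prime hp).mp (hdeg ▸ minpoly.degree_dvd hyint)).resolve_left fun h1 => ?_
  obtain ⟨l, hl⟩ := minpoly.natDegree_eq_one_iff.mp h1
  have hl0 : l ≠ 0 := by
    rintro rfl
    rw [map_zero] at hl
    rw [← hl, map_zero, zero_pow hp.ne_zero] at hy
    exact (K362.TotRam.valuation_uniformizer_pos (K := L) hπ V).ne hy
  obtain ⟨k, hk⟩ := K362.TotRam.exists_exponent (L := M) hπ l hl0
  rw [← hl, hk V hV, ← zpow_natCast, ← zpow_mul] at hy
  have h3 := (zpow_right_strictAnti₀ (K362.TotRam.valuation_uniformizer_pos (K := L) hπ V)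
    (K362.TotRam.valuation_uniformizer_lt hπ hV)).injective (hy.trans (zpow_one _).symm)
  have h4 : (p : ℤ) ∣ 1 := ⟨k, by linarith⟩
  have h5 : p ∣ 1 := by exact_mod_cast h4
  exact hp.one_lt.ne' (Nat.dvd_one.mp h5)

theorem adjoin_eq_top_of_natDegree {p : ℕ} (hp : p.Prime) (hdeg : Module.finrank L M = p) (y : M)
    (h : (minpoly L y).natDegree = p) : Algebra.adjoin L {y} = ⊤ := by
  have hfin : FiniteDimensional L M := Module.finite_of_finrank_pos (by rw [hdeg]; exact hp.pos)
  have hyint : IsIntegral L y := Algebra.IsIntegral.isIntegral y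
  have h1 : adjoin L {y} = ⊤ := by
    refine eq_of_le_of_finrank_le le_top ?_
    rw [adjoin.finrank hyint, h, IntermediateField.finrank_top', hdeg]
  rw [← adjoin_simple_toSubalgebra_of_isAlgebraic hyint.isAlgebraic, h1, top_toSubalgebra]

theorem exists_root_aux (Ω : Type u) [Field Ω] [IsAlgClosed Ω] [Algebra L Ω] [Algebra M Ω] [IsScalarTower L M Ω]
    {p : ℕ} (hp : p.Prime) [CharP L p] (hN : CAlg.IsNagata B)
    (hdeg : Module.finrank L M = p) {π : B} (hπ : Irreducible π) (c : C) (u : B)
    (hu : IsUnit u) (hcu : c ^ p = algebraMap B C (u * π))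
    (hexp : ∀ m : ℕ, ∃ (bs : ℕ → B) (b : B), u = ∑ i ∈ Finset.range m, bs i ^ p * π ^ i + b * π ^ m) :
    ∃ c' : C, c' ^ p = algebraMap B C π := by
  classical
  have hfin : FiniteDimensional L M := Module.finite_of_finrank_pos (by rw [hdeg]; exact hp.pos)
  have hchΩ : CharP Ω p := charP_of_injective_algebraMap (algebraMap L Ω).injective p
  have hexpΩ : ExpChar Ω p := ExpChar.prime hp
  let g : B →+* Ω := ((algebraMap M Ω).comp (algebraMap L M)).comp (algebraMap B L)
  have hg : ∀ x : B, g x = algebraMap L Ω (algebraMap B L x) := fun x => by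
    rw [IsScalarTower.algebraMap_apply L M Ω]; rfl
  have hg2 : ∀ x : B, g x = algebraMap M Ω (algebraMap C M (algebraMap B C x)) := fun x => by
    rw [← IsScalarTower.algebraMap_apply B C M, IsScalarTower.algebraMap_apply B L M]; rfl
  obtain ⟨O, hO⟩ := exists_dominates ((algebraMap M Ω).comp (algebraMap C M))
  have hOB : Dominates B g O := by
    have h1 := (dominates_comp_iff (algebraMap C M) (algebraMap M Ω) O).mp hO
    have h2 : O.comap (algebraMap M Ω) = vsub C M := dominates_algebraMap_iff.mp h1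
    have h3 := dominates_vsub' B C L M
    rw [← h2, ← dominates_comp_iff] at h3
    exact h3
  obtain ⟨ϖ, hϖ⟩ := IsAlgClosed.exists_pow_nat_eq (g π) hp.pos
  -- the field `M₀ = L(ϖ)`
  obtain ⟨hfd, hle⟩ := finrank_adjoin_le hp.ne_zero ϖ (algebraMap B L π) (by rw [hϖ, hg])
  let E : IntermediateField L Ω := adjoin L {ϖ}
  let M₀ : Subfield Ω := E.toSubfield
  let i1 : Algebra L M₀ := inferInstanceAs (Algebra L E)
  have hfd0 : FiniteDimensional L M₀ := hfd
  have hdomM₀ : Dominates B ((algebraMap L M₀).comp (algebraMap B L)) (VR O M₀) := by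
    have h := (dominates_comp_iff ((algebraMap L M₀).comp (algebraMap B L)) M₀.subtype O)
    refine h.mp ?_
    have : M₀.subtype.comp ((algebraMap L M₀).comp (algebraMap B L)) = g := by
      ext x
      rw [hg]
      rfl
    rw [this]
    exact hOB
  have hdvr : IsDiscreteValuationRing (VR O M₀) :=
    Groth.Agent.Etalg.RamDVR.isDVR_of_dominates (A := B) (K := L) hdomM₀
  have hNM₀ : CAlg.IsNagata (VR O M₀) := NagataVal.isNagata_of_dominates (B := B) (L := L) hN _ hdomM₀
  have hgπ : O.valuation (g π) < 1 := hOB.2 π ((mem_maximalIdeal π).mpr hπ.not_isUnit)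
  have hgπ0 : g π ≠ 0 := by
    rw [hg, Ne, map_eq_zero, map_eq_zero_iff _ (IsFractionRing.injective B L)]
    exact hπ.ne_zero
  have hϖ1 : O.valuation ϖ < 1 := by
    rw [← pow_lt_one_iff_of_nonneg zero_le hp.ne_zero, ← map_pow, hϖ]
    exact hgπ
  have hϖ0 : ϖ ≠ 0 := by
    rintro rfl
    rw [zero_pow hp.ne_zero] at hϖ
    exact hgπ0 hϖ.symm
  have hϖO : ϖ ∈ O := (O.valuation_le_one_iff ϖ).mp hϖ1.le
  have hϖM₀ : ϖ ∈ M₀ := mem_adjoin_simple_self L ϖ
  let t : VR O M₀ := ⟨⟨ϖ, hϖM₀⟩, hϖO⟩
  have ht0 : t ≠ 0 := by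
    intro h
    exact hϖ0 (congrArg (fun z => toΩ O M₀ z) h)
  have htm : t ∈ maximalIdeal (VR O M₀) := (mem_maximalIdeal_iff t).mpr hϖ1
  have hgM₀ : ∀ x : B, g x ∈ M₀ := by
    intro x
    rw [hg]
    exact E.algebraMap_mem _
  let cΩ : Ω := algebraMap M Ω (algebraMap C M c)
  have hcΩ : cΩ ^ p = g (u * π) := by
    show (algebraMap M Ω (algebraMap C M c)) ^ p = _
    rw [← map_pow, ← map_pow, hcu, hg2]
  have hcM₀ : cΩ ∈ M₀ := by
    refine K362.NagRoot.mem_of_limit M₀ hNM₀ hp t ht0 htm cΩ (by rw [hcΩ]; exact hgM₀ _) fun m => ?_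
    obtain ⟨bs, b, hb⟩ := hexp m
    have hyO : ∑ i ∈ Finset.range m, g (bs i) * ϖ ^ (i + 1) ∈ O :=
      sum_mem fun i _ => mul_mem (hOB.1 _) (pow_mem hϖO _)
    refine ⟨∑ i ∈ Finset.range m, g (bs i) * ϖ ^ (i + 1),
      sum_mem fun i _ => mul_mem (hgM₀ _) (pow_mem hϖM₀ _),
      (cΩ - ∑ i ∈ Finset.range m, g (bs i) * ϖ ^ (i + 1)) / ϖ ^ m, ?_, hyO, ?_⟩
    · -- the `p`-th power is integral
      rw [← O.valuation_le_one_iff, ← pow_le_one_iff_of_nonneg zero_le hp.ne_zero, ← map_pow, div_pow,
        sub_pow_expChar, sum_pow_char, hcΩ, O.valuation_le_one_iff]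
      have h1 : ∀ i, (g (bs i) * ϖ ^ (i + 1)) ^ p = g (bs i ^ p * π ^ i) * g π := by
        intro i
        rw [mul_pow, ← pow_mul, mul_comm (i + 1) p, pow_mul, hϖ, map_mul, map_pow, map_pow]
        ring
      have h2 : (ϖ ^ m) ^ p = g π ^ m := by rw [← pow_mul, mul_comm m p, pow_mul, hϖ]
      rw [Finset.sum_congr rfl (fun i _ => h1 i), ← Finset.sum_mul, ← map_sum, map_mul, ← sub_mul, ← map_sub, h2]
      have h3 : u - ∑ i ∈ Finset.range m, bs i ^ p * π ^ i = b * π ^ m := by
        rw [hb]; ring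
      rw [h3, map_mul, map_pow]
      have h4 : g b * g π ^ m * g π / g π ^ m = g (b * π) := by
        rw [map_mul]
        field_simp
      rw [h4]
      exact hOB.1 _
    · show _ = ϖ ^ m * _
      rw [mul_div_cancel₀ _ (pow_ne_zero m hϖ0)]
  -- `c ∉ L`, so that `L(c) = M = L(ϖ)`
  let V : ValuationSubring M := vsub C M
  have hV : Dominates B ((algebraMap L M).comp (algebraMap B L)) V := dominates_vsub' B C L M
  let y : M := algebraMap C M c
  have hy : V.valuation y ^ p = V.valuation (algebraMap L M (algebraMap B L π)) := by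
    rw [← map_pow, ← map_pow, hcu, ← IsScalarTower.algebraMap_apply, IsScalarTower.algebraMap_apply B L M,
      map_mul, map_mul, map_mul]
    have h1 := Groth.Agent.Etalg.RamDVR.valuation_eq_one_of_isUnit hV hu
    simp only [RingHom.comp_apply] at h1
    rw [h1, one_mul]
  have hyint : IsIntegral L y := Algebra.IsIntegral.isIntegral y
  have hydeg : (minpoly L y).natDegree = p := natDegree_minpoly hp hdeg hπ hV y hy
  have hyΩ : IsIntegral L cΩ := hyint.map (IsScalarTower.toAlgHom L M Ω)
  have hfrc : Module.finrank L (adjoin L {cΩ}) = p := by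
    rw [adjoin.finrank hyΩ, show minpoly L cΩ = minpoly L y from
      minpoly.algebraMap_eq (algebraMap M Ω).injective y, hydeg]
  have heq : adjoin L {cΩ} = E := by
    refine eq_of_le_of_finrank_le ?_ ?_
    · rw [adjoin_simple_le_iff]
      exact hcM₀
    · rw [hfrc]
      exact hle
  have hϖF : ϖ ∈ (IsScalarTower.toAlgHom L M Ω).fieldRange := by
    have h1 : adjoin L {cΩ} ≤ (IsScalarTower.toAlgHom L M Ω).fieldRange := by
      rw [adjoin_simple_le_iff]
      exact ⟨y, rfl⟩
    apply h1
    rw [heq]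
    exact hϖM₀
  obtain ⟨z, hz⟩ := hϖF
  replace hz : algebraMap M Ω z = ϖ := hz
  have hzp : z ^ p = algebraMap C M (algebraMap B C π) := by
    apply (algebraMap M Ω).injective
    rw [map_pow, hz, hϖ, hg2]
  have hzV : z ∈ V := by
    rw [← V.valuation_le_one_iff, ← pow_le_one_iff_of_nonneg zero_le hp.ne_zero, ← map_pow, hzp,
      V.valuation_le_one_iff]
    exact ⟨_, rfl⟩
  obtain ⟨c', hc'⟩ := hzV
  refine ⟨c', IsFractionRing.injective C M ?_⟩
  rw [map_pow, hc', hzp]

/-- The limit case. -/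
theorem exists_root {p : ℕ} (hp : p.Prime) [CharP L p] (hN : CAlg.IsNagata B)
    (hdeg : Module.finrank L M = p) {π : B} (hπ : Irreducible π) (c : C) (u : B)
    (hu : IsUnit u) (hcu : c ^ p = algebraMap B C (u * π))
    (hexp : ∀ m : ℕ, ∃ (bs : ℕ → B) (b : B), u = ∑ i ∈ Finset.range m, bs i ^ p * π ^ i + b * π ^ m) :
    ∃ c' : C, c' ^ p = algebraMap B C π :=
  exists_root_aux (L := L) (M := M) (AlgebraicClosure M) hp hN hdeg hπ c u hu hcu hexp

end K362.InsepLim
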