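import Mathlib.RingTheory.Localization.Away.Basic
import Mathlib.RingTheory.Finiteness.Ideal
import Mathlib.RingTheory.Ideal.Quotient.Operations
import Mathlib.RingTheory.Ideal.Maps

/-!
# Transporting a finite modification along an isomorphism modulo `f ^ n`
-/

set_option autoImplicit false
universe u

namespace K362.LiftQuot

section Iso

variable {A' A B' B R : Type*} [CommRing A'] [CommRing A] [CommRing B'] [CommRing B] [CommRing R]
  [Algebra A' A] [Algebra B' B] (f : A') (g : B') (c n : ℕ)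
  (j : A → A') (k : B → B') (ρ : A' →+* R) (τ : B' →+* R)

theorem mem_key (hf : f ∈ nonZeroDivisors A') (hj : ∀ a, algebraMap A' A (j a) = algebraMap A' A f ^ c * a)
    (hinj : Function.Injective (algebraMap A' A)) (hn : 2 * c + 1 ≤ n) (hρk : RingHom.ker ρ = Ideal.span {f ^ n})
    (x y : A) (a : A')
    (h : ρ (f ^ c) * (ρ a) = ρ (f * (j x * j y))) : ∃ z : A, ρ a = ρ (f * j z) := by
  have h1 : j x * j y = f ^ c * j (x * y) := by
    apply hinj
    rw [map_mul, hj, hj, map_mul, hj, map_pow]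
    ring
  rw [h1] at h
  have h2 : f ^ c * a - f * (f ^ c * j (x * y)) ∈ RingHom.ker ρ := by
    rw [RingHom.mem_ker, map_sub, map_mul, h, sub_self]
  rw [hρk, Ideal.mem_span_singleton] at h2
  obtain ⟨t, ht⟩ := h2
  have h3 : f ^ c * (a - f * j (x * y)) = f ^ c * (f ^ (n - c) * t) := by
    rw [← mul_assoc, ← pow_add, Nat.add_sub_cancel' (by omega), ← ht]; ring
  have hfc : f ^ c ∈ nonZeroDivisors A' := pow_mem hf c
  have h4 : a - f * j (x * y) = f ^ (n - c) * t := by
    rw [mul_cancel_left_mem_nonZeroDivisors hfc] at h3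
    exact h3
  refine ⟨x * y + algebraMap A' A (f ^ (n - 2 * c - 1) * t), ?_⟩
  have h5 : j (x * y + algebraMap A' A (f ^ (n - 2 * c - 1) * t)) = j (x * y) + f ^ c * (f ^ (n - 2 * c - 1) * t) := by
    apply hinj
    rw [hj]
    simp only [map_add, map_mul, map_pow, hj]
    ring
  rw [h5]
  congr 1
  have h6 : f ^ (n - c) = f * (f ^ c * f ^ (n - 2 * c - 1)) := by
    rw [← pow_add, ← pow_succ']
    congr 1
    omega
  have h7 : a = f * j (x * y) + f ^ (n - c) * t := by rw [← h4]; ring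
  rw [h7, h6]
  ring

/-- The isomorphism modulo `f`. -/
theorem exists_iso (hinj : Function.Injective (algebraMap A' A)) (hinjB : Function.Injective (algebraMap B' B))
    (hf : f ∈ nonZeroDivisors A')
    (hfA : algebraMap A' A f ∈ nonZeroDivisors A) (hgB : algebraMap B' B g ∈ nonZeroDivisors B)
    (hj : ∀ a, algebraMap A' A (j a) = algebraMap A' A f ^ c * a)
    (hk : ∀ b, algebraMap B' B (k b) = algebraMap B' B g ^ c * b) (hn : 2 * c + 1 ≤ n)
    (hρ : Function.Surjective ρ)
    (hρk : RingHom.ker ρ = Ideal.span {f ^ n}) (hτk : RingHom.ker τ = Ideal.span {g ^ n})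
    (hfg : ρ f = τ g) (h₁ : ∀ a, ∃ b, ρ (j a) = τ (k b)) (h₂ : ∀ b, ∃ a, ρ (j a) = τ (k b)) :
    ∃ φ : (A ⧸ Ideal.span {algebraMap A' A f}) ≃+* (B ⧸ Ideal.span {algebraMap B' B g}),
      ∀ (a' : A') (b' : B'), ρ a' = τ b' →
        φ (Ideal.Quotient.mk _ (algebraMap A' A a')) = Ideal.Quotient.mk _ (algebraMap B' B b') := by
  have hjadd : ∀ x y, j (x + y) = j x + j y := fun x y => hinj (by rw [hj, map_add, hj, hj]; ring)
  have hkadd : ∀ x y, k (x + y) = k x + k y := fun x y => hinjB (by rw [hk, map_add, hk, hk]; ring)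
  have hjmul : ∀ x y, f ^ c * j (x * y) = j x * j y := fun x y =>
    hinj (by rw [map_mul, hj, map_mul, hj, hj, map_pow]; ring)
  have hkmul : ∀ x y, g ^ c * k (x * y) = k x * k y := fun x y =>
    hinjB (by rw [map_mul, hk, map_mul, hk, hk, map_pow]; ring)
  have hjsmul : ∀ x y, j (algebraMap A' A x * y) = x * j y := fun x y =>
    hinj (by rw [hj, map_mul, hj]; ring)
  have hksmul : ∀ x y, k (algebraMap B' B x * y) = x * k y := fun x y =>
    hinjB (by rw [hk, map_mul, hk]; ring)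
  have hj0 : j 0 = 0 := hinj (by rw [hj, map_zero, mul_zero])
  have hk0 : k 0 = 0 := hinjB (by rw [hk, map_zero, mul_zero])
  have hj1 : j 1 = f ^ c := hinj (by rw [hj, map_pow, mul_one])
  have hk1 : k 1 = g ^ c := hinjB (by rw [hk, map_pow, mul_one])
  have hjneg : ∀ x, j (-x) = - j x := fun x => hinj (by rw [hj, map_neg, hj]; ring)
  have hkneg : ∀ x, k (-x) = - k x := fun x => hinjB (by rw [hk, map_neg, hk]; ring)
  -- the subring of `A × B`
  let T : Subring (A × B) :=
    { carrier := {x | ∃ z : A, ρ (j x.1) - τ (k x.2) = ρ (f * j z)}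
      mul_mem' := by
        rintro ⟨x₁, y₁⟩ ⟨x₂, y₂⟩ ⟨z₁, hz₁⟩ ⟨z₂, hz₂⟩
        simp only at hz₁ hz₂
        show ∃ z : A, ρ (j (x₁ * x₂)) - τ (k (y₁ * y₂)) = ρ (f * j z)
        obtain ⟨w, hw⟩ := h₂ y₂
        obtain ⟨s, hs⟩ := hρ (ρ (j (x₁ * x₂)) - τ (k (y₁ * y₂)))
        rw [← hs]
        -- `f ^ c * s = j x₁ * (f j z₂) + f j z₁ * j w`
        have h3 : ρ (f ^ c) * ρ s = ρ (f * (j 1 * j (x₁ * z₂ + z₁ * w))) := by
          rw [hs, mul_sub, ← map_mul, hjmul, show ρ (f ^ c) = τ (g ^ c) by rw [map_pow, map_pow, hfg], ← map_mul,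
            hkmul, map_mul, map_mul]
          have e1 : j 1 * j (x₁ * z₂ + z₁ * w) = j x₁ * j z₂ + j z₁ * j w := by
            rw [hjadd, mul_add, hj1, hjmul, hjmul]
          rw [e1]
          have e2 : ρ (j x₁) * ρ (j x₂) - τ (k y₁) * τ (k y₂) =
              ρ (j x₁) * (ρ (j x₂) - τ (k y₂)) + (ρ (j x₁) - τ (k y₁)) * τ (k y₂) := by ring
          rw [e2, hz₂, hz₁, ← hw]
          simp only [map_mul, map_add]
          ring
        obtain ⟨z, hz⟩ := mem_key f c n j ρ hf hj hinj hn hρk 1 (x₁ * z₂ + z₁ * w) s h3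
        exact ⟨z, hz⟩
      one_mem' := ⟨0, by
        show ρ (j 1) - τ (k 1) = ρ (f * j 0)
        rw [hj1, hk1, hj0, mul_zero, map_zero, map_pow, map_pow, hfg, sub_self]⟩
      add_mem' := by
        rintro ⟨x₁, y₁⟩ ⟨x₂, y₂⟩ ⟨z₁, hz₁⟩ ⟨z₂, hz₂⟩
        refine ⟨z₁ + z₂, ?_⟩
        simp only at hz₁ hz₂
        show ρ (j (x₁ + x₂)) - τ (k (y₁ + y₂)) = ρ (f * j (z₁ + z₂))
        rw [hjadd, hjadd, hkadd, mul_add, map_add, map_add, map_add, ← hz₁, ← hz₂]
        ring
      zero_mem' := ⟨0, by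
        show ρ (j 0) - τ (k 0) = ρ (f * j 0)
        rw [hj0, hk0, map_zero, map_zero, mul_zero, map_zero, sub_zero]⟩
      neg_mem' := by
        rintro ⟨x₁, y₁⟩ ⟨z₁, hz₁⟩
        refine ⟨-z₁, ?_⟩
        simp only at hz₁
        show ρ (j (-x₁)) - τ (k (-y₁)) = ρ (f * j (-z₁))
        rw [hjneg, hjneg, hkneg, mul_neg, map_neg, map_neg, map_neg, ← hz₁]
        ring }
  have hT : ∀ a' b', ρ a' = τ b' → (algebraMap A' A a', algebraMap B' B b') ∈ T := by
    intro a' b' h
    refine ⟨0, ?_⟩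
    show ρ (j (algebraMap A' A a')) - τ (k (algebraMap B' B b')) = ρ (f * j 0)
    have e1 : j (algebraMap A' A a') = a' * f ^ c := by
      have := hjsmul a' 1
      rwa [mul_one, hj1] at this
    have e2 : k (algebraMap B' B b') = b' * g ^ c := by
      have := hksmul b' 1
      rwa [mul_one, hk1] at this
    rw [e1, e2, hj0, mul_zero, map_zero, map_mul, map_mul, h, map_pow, map_pow, hfg, sub_self]
  let P : T →+* A ⧸ Ideal.span {algebraMap A' A f} :=
    (Ideal.Quotient.mk _).comp ((RingHom.fst A B).comp T.subtype)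
  let Q : T →+* B ⧸ Ideal.span {algebraMap B' B g} :=
    (Ideal.Quotient.mk _).comp ((RingHom.snd A B).comp T.subtype)
  have hP : Function.Surjective P := by
    intro x
    obtain ⟨x, rfl⟩ := Ideal.Quotient.mk_surjective x
    obtain ⟨b, hb⟩ := h₁ x
    exact ⟨⟨(x, b), ⟨0, by simp only [hb, sub_self, hj0, mul_zero, map_zero]⟩⟩, rfl⟩
  have hQ : Function.Surjective Q := by
    intro x
    obtain ⟨x, rfl⟩ := Ideal.Quotient.mk_surjective x
    obtain ⟨b, hb⟩ := h₂ x
    exact ⟨⟨(b, x), ⟨0, by simp only [hb, sub_self, hj0, mul_zero, map_zero]⟩⟩, rfl⟩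
  have hfn : ∀ t, f ^ n * t = f * j (algebraMap A' A (f ^ (n - c - 1) * t)) := by
    intro t
    have e1 : j (algebraMap A' A (f ^ (n - c - 1) * t)) = (f ^ (n - c - 1) * t) * f ^ c := by
      have := hjsmul (f ^ (n - c - 1) * t) 1
      rwa [mul_one, hj1] at this
    rw [e1, show f * (f ^ (n - c - 1) * t * f ^ c) = (f * (f ^ (n - c - 1) * f ^ c)) * t by ring,
      ← pow_add, ← pow_succ']
    congr 2
    omega
  have hgn : ∀ t, g ^ n * t = g * k (algebraMap B' B (g ^ (n - c - 1) * t)) := by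
    intro t
    have e1 : k (algebraMap B' B (g ^ (n - c - 1) * t)) = (g ^ (n - c - 1) * t) * g ^ c := by
      have := hksmul (g ^ (n - c - 1) * t) 1
      rwa [mul_one, hk1] at this
    rw [e1, show g * (g ^ (n - c - 1) * t * g ^ c) = (g * (g ^ (n - c - 1) * g ^ c)) * t by ring,
      ← pow_add, ← pow_succ']
    congr 2
    omega
  have hker : RingHom.ker P = RingHom.ker Q := by
    ext ⟨⟨x, y⟩, ⟨z, hz⟩⟩
    simp only at hz
    rw [RingHom.mem_ker, RingHom.mem_ker]
    show Ideal.Quotient.mk _ x = 0 ↔ Ideal.Quotient.mk _ y = 0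
    rw [Ideal.Quotient.eq_zero_iff_mem, Ideal.Quotient.eq_zero_iff_mem, Ideal.mem_span_singleton,
      Ideal.mem_span_singleton]
    constructor
    · rintro ⟨x', rfl⟩
      rw [hjsmul] at hz
      -- `τ (k y) = ρ (f * (j x' - j z))`
      obtain ⟨b, hb⟩ := h₁ (x' + -z)
      have h3 : τ (k y) = τ (g * k b) := by
        rw [map_mul, ← hb, hjadd, hjneg, ← hfg]
        have : τ (k y) = ρ (f * j x') - ρ (f * j z) := by rw [← hz]; ring
        rw [this, map_mul, map_mul, map_add, map_neg]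
        ring
      have h4 : k y - g * k b ∈ RingHom.ker τ := by rw [RingHom.mem_ker, map_sub, h3, sub_self]
      rw [hτk, Ideal.mem_span_singleton] at h4
      obtain ⟨t, ht⟩ := h4
      rw [hgn] at ht
      refine ⟨b + algebraMap B' B (g ^ (n - c - 1) * t), ?_⟩
      have hgc : algebraMap B' B g ^ c ∈ nonZeroDivisors B := pow_mem hgB c
      rw [← mul_cancel_left_mem_nonZeroDivisors hgc, ← hk]
      have h5 : k y = g * k (b + algebraMap B' B (g ^ (n - c - 1) * t)) := by
        rw [hkadd, mul_add, ← ht]; ring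
      rw [h5, map_mul, hk]
      ring
    · rintro ⟨y', rfl⟩
      rw [hksmul] at hz
      obtain ⟨b, hb⟩ := h₂ y'
      have h3 : ρ (j x) = ρ (f * j (b + z)) := by
        have : ρ (j x) = τ (g * k y') + ρ (f * j z) := by rw [← hz]; ring
        rw [this, hjadd, map_mul, map_mul, map_mul, map_add, ← hb, ← hfg]
        ring
      have h4 : j x - f * j (b + z) ∈ RingHom.ker ρ := by rw [RingHom.mem_ker, map_sub, h3, sub_self]
      rw [hρk, Ideal.mem_span_singleton] at h4
      obtain ⟨t, ht⟩ := h4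
      rw [hfn] at ht
      refine ⟨b + z + algebraMap A' A (f ^ (n - c - 1) * t), ?_⟩
      have hgc : algebraMap A' A f ^ c ∈ nonZeroDivisors A := pow_mem hfA c
      rw [← mul_cancel_left_mem_nonZeroDivisors hgc, ← hj]
      have h5 : j x = f * j (b + z + algebraMap A' A (f ^ (n - c - 1) * t)) := by
        rw [hjadd, mul_add, ← ht]; ring
      rw [h5, map_mul, hj]
      ring
  let e : (A ⧸ Ideal.span {algebraMap A' A f}) ≃+* (B ⧸ Ideal.span {algebraMap B' B g}) :=
    (RingHom.quotientKerEquivOfSurjective hP).symm.trans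
      ((Ideal.quotEquivOfEq hker).trans (RingHom.quotientKerEquivOfSurjective hQ))
  refine ⟨e, fun a' b' h => ?_⟩
  let t : T := ⟨_, hT a' b' h⟩
  have e1 : (RingHom.quotientKerEquivOfSurjective hP).symm (P t) = Ideal.Quotient.mk _ t := by
    rw [RingEquiv.symm_apply_eq]; rfl
  show (RingHom.quotientKerEquivOfSurjective hQ) ((Ideal.quotEquivOfEq hker)
    ((RingHom.quotientKerEquivOfSurjective hP).symm (P t))) = Q t
  rw [e1]
  rfl

end Iso

section Construct

variable {A' A B' R S : Type*} [CommRing A'] [CommRing A] [CommRing B'] [CommRing R] [CommRing S]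
  [Algebra A' A] [Algebra B' S] (f : A') (g : B') (c n : ℕ)
  (ρ : A' →+* R) (τ : B' →+* R)

/-- the conductor-type ideal `f ^ c A ⊆ A'` -/
def J (A : Type*) [CommRing A] [Algebra A' A] (f : A') (c : ℕ) : Ideal A' where
  carrier := {x | ∃ a : A, algebraMap A' A x = algebraMap A' A f ^ c * a}
  add_mem' := by
    rintro x y ⟨a, ha⟩ ⟨b, hb⟩
    exact ⟨a + b, by rw [map_add, ha, hb, mul_add]⟩
  zero_mem' := ⟨0, by rw [map_zero, mul_zero]⟩
  smul_mem' := by
    rintro r x ⟨a, ha⟩
    exact ⟨algebraMap A' A r * a, by rw [smul_eq_mul, map_mul, ha]; ring⟩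

theorem mem_J {x : A'} : x ∈ J A f c ↔ ∃ a : A, algebraMap A' A x = algebraMap A' A f ^ c * a := Iff.rfl

/-- The corresponding ideal of `B'`. -/
def JB (I : Ideal A') : Ideal B' := (I.map ρ).comap τ

theorem fg_J [Module.Finite A' A] (hinj : Function.Injective (algebraMap A' A))
    (hc : ∀ a : A, ∃ a' : A', algebraMap A' A a' = algebraMap A' A f ^ c * a) :
    (J A f c).FG := by
  choose j hj using hc
  let φ : A →ₗ[A'] A' :=
    { toFun := j
      map_add' := fun x y => hinj (by rw [hj, map_add, hj, hj]; ring)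
      map_smul' := fun r y => hinj (by
        rw [hj, RingHom.id_apply, smul_eq_mul, map_mul, hj, Algebra.smul_def]; ring) }
  have h : J A f c = LinearMap.range φ := by
    ext x
    constructor
    · rintro ⟨a, ha⟩
      exact ⟨a, hinj (by rw [ha]; exact hj a)⟩
    · rintro ⟨a, rfl⟩
      exact ⟨a, hj a⟩
  rw [h]
  have h2 : (⊤ : Submodule A' A).FG := Module.Finite.fg_top
  have h3 := h2.map φ
  rwa [Submodule.map_top] at h3

theorem fg_JB {I : Ideal A'} (hI : I.FG) (hτ : Function.Surjective τ) (hτk : (RingHom.ker τ).FG) :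
    (JB ρ τ I).FG := by
  classical
  obtain ⟨s, hs⟩ := hI.map ρ
  choose l hl using hτ
  let t : Finset B' := s.image l
  have h1 : (Ideal.span (t : Set B')).map τ = I.map ρ := by
    rw [← hs, Ideal.map_span, Finset.coe_image, ← Set.image_comp]
    congr 1
    ext x
    simp [hl]
  have h2 : JB ρ τ I = Ideal.span (t : Set B') ⊔ RingHom.ker τ := by
    show (I.map ρ).comap τ = _
    rw [← h1, Ideal.comap_map_of_surjective τ (fun x => ⟨l x, hl x⟩)]
    rfl
  rw [h2]
  exact Submodule.FG.sup ⟨t, rfl⟩ hτk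

end Construct

section Main

variable {A' A B' : Type u} [CommRing A'] [CommRing A] [CommRing B'] [Algebra A' A]

theorem exists_pow_mul (f : A') (hf : algebraMap A' A f ∈ nonZeroDivisors A)
    (hloc : Function.Surjective (IsLocalization.Away.map (Localization.Away f)
      (Localization.Away (algebraMap A' A f)) (algebraMap A' A) f)) (a : A) :
    ∃ (k : ℕ) (a' : A'), algebraMap A' A a' = algebraMap A' A f ^ k * a := by
  obtain ⟨y, hy⟩ := hloc (algebraMap A (Localization.Away (algebraMap A' A f)) a)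
  obtain ⟨⟨a', ⟨_, k, rfl⟩⟩, hk⟩ := IsLocalization.surj (Submonoid.powers f) y
  refine ⟨k, a', ?_⟩
  have hinj : Function.Injective (algebraMap A (Localization.Away (algebraMap A' A f))) :=
    IsLocalization.injective _ (Submonoid.powers_le.mpr hf)
  apply hinj
  have h1 := congrArg (IsLocalization.Away.map (Localization.Away f)
      (Localization.Away (algebraMap A' A f)) (algebraMap A' A) f) hk
  have h2 : ∀ x : A', IsLocalization.Away.map (Localization.Away f)
      (Localization.Away (algebraMap A' A f)) (algebraMap A' A) f (algebraMap A' (Localization.Away f) x) =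
      algebraMap A (Localization.Away (algebraMap A' A f)) (algebraMap A' A x) := fun x =>
    IsLocalization.map_eq _ x
  rw [map_mul, hy, h2, h2] at h1
  simp only at h1
  rw [← h1, map_pow, map_mul, mul_comm]

theorem exists_pow_mul_all [Module.Finite A' A] (f : A') (hf : algebraMap A' A f ∈ nonZeroDivisors A)
    (hloc : Function.Surjective (IsLocalization.Away.map (Localization.Away f)
      (Localization.Away (algebraMap A' A f)) (algebraMap A' A) f)) :
    ∃ c : ℕ, ∀ a : A, ∃ a' : A', algebraMap A' A a' = algebraMap A' A f ^ c * a := by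
  classical
  obtain ⟨s, hs⟩ := (Module.Finite.fg_top : (⊤ : Submodule A' A).FG)
  choose k a' ha' using exists_pow_mul f hf hloc
  refine ⟨s.sup k, fun a => ?_⟩
  have ha : a ∈ Submodule.span A' (s : Set A) := by rw [hs]; trivial
  induction ha using Submodule.span_induction with
  | mem x hx =>
    have h1 : k x ≤ s.sup k := Finset.le_sup (f := k) hx
    refine ⟨f ^ (s.sup k - k x) * a' x, ?_⟩
    rw [map_mul, ha', map_pow, ← mul_assoc, ← pow_add, Nat.sub_add_cancel h1]
  | zero => exact ⟨0, by rw [map_zero, mul_zero]⟩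
  | add x y _ _ hx hy =>
    obtain ⟨b, hb⟩ := hx
    obtain ⟨d, hd⟩ := hy
    exact ⟨b + d, by rw [map_add, hb, hd, mul_add]⟩
  | smul r x _ hx =>
    obtain ⟨b, hb⟩ := hx
    exact ⟨r * b, by rw [map_mul, hb, Algebra.smul_def]; ring⟩

theorem main (hinj : Function.Injective (algebraMap A' A)) [Module.Finite A' A] (f : A')
    (hf : algebraMap A' A f ∈ nonZeroDivisors A) (c n : ℕ) (hn : 2 * c + 1 ≤ n)
    (hc : ∀ a : A, ∃ a' : A', algebraMap A' A a' = algebraMap A' A f ^ c * a)
    (g : B') (hg : g ∈ nonZeroDivisors B') {R : Type*} [CommRing R] (ρ : A' →+* R) (τ : B' →+* R)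
    (hρ : Function.Surjective ρ) (hτ : Function.Surjective τ)
    (hρk : RingHom.ker ρ = Ideal.span {f ^ n}) (hτk : RingHom.ker τ = Ideal.span {g ^ n}) (hfg : ρ f = τ g) :
    ∃ (B : Type u) (_ : CommRing B) (_ : Algebra B' B),
      Function.Injective (algebraMap B' B) ∧ Module.Finite B' B ∧
      ∃ φ : (A ⧸ Ideal.span {algebraMap A' A f}) ≃+* (B ⧸ Ideal.span {algebraMap B' B g}),
        ∀ (a' : A') (b' : B'), ρ a' = τ b' →
          φ (Ideal.Quotient.mk _ (algebraMap A' A a')) = Ideal.Quotient.mk _ (algebraMap B' B b') := by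
  classical
  have hf' : f ∈ nonZeroDivisors A' := by
    rw [mem_nonZeroDivisors_iff_right] at hf ⊢
    intro x hx
    apply hinj
    rw [map_zero]
    exact hf _ (by rw [← map_mul, hx, map_zero])
  let S := Localization.Away g
  have hS : Function.Injective (algebraMap B' S) := IsLocalization.injective _ (Submonoid.powers_le.mpr hg)
  have hu : IsUnit (algebraMap B' S g) := IsLocalization.Away.algebraMap_isUnit g
  let u : Sˣ := hu.unit
  have hu' : (u : S) = algebraMap B' S g := rfl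
  let I : Ideal A' := J A f c
  let K : Ideal B' := JB ρ τ I
  have hI : I.FG := fg_J f c hinj hc
  have hK : K.FG := fg_JB ρ τ hI hτ (by rw [hτk]; exact ⟨{g ^ n}, by simp⟩)
  have hmemK : ∀ b : B', b ∈ K ↔ ∃ a ∈ I, ρ a = τ b := by
    intro b
    show τ b ∈ I.map ρ ↔ _
    rw [Ideal.mem_map_iff_of_surjective ρ hρ]
  have hfcI : ∀ m : ℕ, c ≤ m → ∀ x, f ^ m * x ∈ I := by
    intro m hm x
    refine ⟨algebraMap A' A (f ^ (m - c) * x), ?_⟩
    rw [map_mul, map_mul, map_pow, map_pow, ← mul_assoc, ← pow_add, Nat.add_sub_cancel' hm]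
  have hgcK : ∀ m : ℕ, c ≤ m → ∀ x, g ^ m * x ∈ K := by
    intro m hm x
    obtain ⟨y, hy⟩ := hρ (τ x)
    rw [hmemK]
    exact ⟨f ^ m * y, hfcI m hm y, by rw [map_mul, map_mul, hy, map_pow, map_pow, hfg]⟩
  have hKK : ∀ x ∈ K, ∀ y ∈ K, ∃ z ∈ K, x * y = g ^ c * z := by
    intro x hx y hy
    obtain ⟨a, ⟨a₀, ha₀⟩, hax⟩ := (hmemK x).mp hx
    obtain ⟨b, ⟨b₀, hb₀⟩, hby⟩ := (hmemK y).mp hy
    obtain ⟨d, hd⟩ := hc (a₀ * b₀)
    have h1 : a * b = f ^ c * d := by
      apply hinj
      rw [map_mul, ha₀, hb₀, map_mul, hd, map_pow]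
      ring
    obtain ⟨e, he⟩ := hτ (ρ d)
    have h2 : x * y - g ^ c * e ∈ RingHom.ker τ := by
      rw [RingHom.mem_ker, map_sub, map_mul, ← hax, ← hby, ← map_mul, h1, map_mul, map_mul, he, map_pow,
        map_pow, hfg, sub_self]
    rw [hτk, Ideal.mem_span_singleton] at h2
    obtain ⟨t, ht⟩ := h2
    refine ⟨e + g ^ (n - c) * t, K.add_mem ?_ (hgcK _ (by omega) _), ?_⟩
    · rw [hmemK]
      exact ⟨d, ⟨_, hd⟩, he.symm⟩
    · have h3 : g ^ n = g ^ c * g ^ (n - c) := by rw [← pow_add, Nat.add_sub_cancel' (by omega)]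
      have h4 : x * y = g ^ c * e + g ^ n * t := by rw [← ht]; ring
      rw [h4, h3]
      ring
  let B : Subalgebra B' S :=
    { carrier := {x | ∃ b ∈ K, algebraMap B' S b = algebraMap B' S g ^ c * x}
      mul_mem' := by
        rintro x y ⟨b, hb, hx⟩ ⟨d, hd, hy⟩
        obtain ⟨z, hz, hbd⟩ := hKK b hb d hd
        refine ⟨z, hz, ?_⟩
        have h1 : algebraMap B' S g ^ c * algebraMap B' S z = algebraMap B' S g ^ c * (algebraMap B' S g ^ c * (x * y)) := by
          rw [← map_pow, ← map_mul, ← hbd, map_mul, hx, hy, map_pow]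
          ring
        exact (hu.pow c).mul_left_cancel h1
      add_mem' := by
        rintro x y ⟨b, hb, hx⟩ ⟨d, hd, hy⟩
        exact ⟨b + d, K.add_mem hb hd, by rw [map_add, hx, hy, mul_add]⟩
      algebraMap_mem' := by
        intro r
        exact ⟨g ^ c * r, hgcK c le_rfl r, by rw [map_mul, map_pow]⟩ }
  have hBS : ∀ b : B', algebraMap B S (algebraMap B' B b) = algebraMap B' S b := fun _ => rfl
  have hBSinj : Function.Injective (algebraMap B S) := Subtype.val_injective
  have hBinj : Function.Injective (algebraMap B' B) := fun x y h => hS (by rw [← hBS, h, hBS])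
  have hgB : algebraMap B' B g ∈ nonZeroDivisors B := by
    rw [mem_nonZeroDivisors_iff_right]
    intro x hx
    apply hBSinj
    rw [map_zero]
    have h1 : algebraMap B S x * algebraMap B' S g = 0 := by
      rw [← hBS, ← map_mul, hx, map_zero]
    exact (hu.mul_left_eq_zero).mp h1
  -- the map `K → B`
  let ψ : K →ₗ[B'] B :=
    { toFun := fun b => ⟨((u⁻¹ : Sˣ) : S) ^ c * algebraMap B' S b, b, b.2, by
        rw [← hu', ← mul_assoc, ← mul_pow, Units.mul_inv, one_pow, one_mul]⟩
      map_add' := fun x y => Subtype.ext (by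
        show ((u⁻¹ : Sˣ) : S) ^ c * algebraMap B' S (x + y : B') =
          ((u⁻¹ : Sˣ) : S) ^ c * algebraMap B' S x + ((u⁻¹ : Sˣ) : S) ^ c * algebraMap B' S y
        rw [map_add, mul_add])
      map_smul' := fun r x => Subtype.ext (by
        show ((u⁻¹ : Sˣ) : S) ^ c * algebraMap B' S (r * (x : B')) = r • (((u⁻¹ : Sˣ) : S) ^ c * algebraMap B' S x)
        rw [map_mul, Algebra.smul_def]
        ring) }
  have hψ : Function.Surjective ψ := by
    rintro ⟨x, b, hb, hx⟩
    refine ⟨⟨b, hb⟩, Subtype.ext ?_⟩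
    show ((u⁻¹ : Sˣ) : S) ^ c * algebraMap B' S b = x
    rw [hx, ← hu', ← mul_assoc, ← mul_pow, Units.inv_mul, one_pow, one_mul]
  have hfin : Module.Finite B' B := by
    have : Module.Finite B' K := Module.Finite.iff_fg.mpr hK
    exact Module.Finite.of_surjective ψ hψ
  refine ⟨B, inferInstance, inferInstance, hBinj, hfin, ?_⟩
  choose j hj using hc
  have hkex : ∀ x : B, ∃ b : B', b ∈ K ∧ algebraMap B' B b = algebraMap B' B g ^ c * x := by
    rintro ⟨x, b, hb, hx⟩
    exact ⟨b, hb, hBSinj (by rw [hBS, map_mul, map_pow, hBS]; exact hx)⟩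
  choose k hkK hk using hkex
  refine exists_iso f g c n j k ρ τ hinj hBinj hf' hf hgB hj hk hn hρ hρk hτk hfg ?_ ?_
  · intro a
    obtain ⟨b, hb⟩ := hτ (ρ (j a))
    have hbK : b ∈ K := (hmemK b).mpr ⟨j a, ⟨a, hj a⟩, hb.symm⟩
    refine ⟨ψ ⟨b, hbK⟩, ?_⟩
    rw [← hb]
    congr 1
    apply hBinj
    rw [hk]
    apply hBSinj
    rw [map_mul, map_pow, hBS, hBS]
    show _ = algebraMap B' S g ^ c * (((u⁻¹ : Sˣ) : S) ^ c * algebraMap B' S b)
    rw [← hu', ← mul_assoc, ← mul_pow, Units.mul_inv, one_pow, one_mul]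
  · intro b
    obtain ⟨a, ⟨a₀, ha₀⟩, ha⟩ := (hmemK _).mp (hkK b)
    refine ⟨a₀, ?_⟩
    rw [← ha]
    congr 1
    apply hinj
    rw [hj, ha₀]

end Main

end K362.LiftQuot
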