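import Groth.Agent.Etalg2.H529.NagataVal

/-!
# `p`-th roots which are limits, over Nagata discrete valuation rings
-/

set_option autoImplicit false
universe u

open IsLocalRing Polynomial

namespace K362.NagRoot

open Groth.Agent.Etalg2.H529 Groth.Agent.Etalg2.H529.OneLevel EtRam

variable {Ω : Type u} [Field Ω] {O : ValuationSubring Ω}

/-- the subfield `M₀(c)` -/
noncomputable def adj (M₀ : Subfield Ω) (c : Ω) : Subfield Ω := (IntermediateField.adjoin M₀ {c}).toSubfield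

theorem le_adj (M₀ : Subfield Ω) (c : Ω) : M₀ ≤ adj M₀ c := fun x hx =>
  (IntermediateField.adjoin M₀ {c}).algebraMap_mem (⟨x, hx⟩ : M₀)

theorem mem_adj (M₀ : Subfield Ω) (c : Ω) : c ∈ adj M₀ c := IntermediateField.mem_adjoin_simple_self M₀ c

theorem adj_le (M₀ : Subfield Ω) (c : Ω) (H : Subfield Ω) (h1 : M₀ ≤ H) (h2 : c ∈ H) : adj M₀ c ≤ H := by
  let H' : IntermediateField M₀ Ω := H.toIntermediateField (fun x => h1 x.2)
  have h3 : IntermediateField.adjoin M₀ {c} ≤ H' := by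
    rw [IntermediateField.adjoin_simple_le_iff]
    exact h2
  exact h3

/-- If `c ^ p ∈ M₀` and `c` is a limit of elements of `M₀`, where `O ∩ M₀` is Nagata, then `c ∈ M₀`. -/
theorem mem_of_limit (M₀ : Subfield Ω) [IsDiscreteValuationRing (VR O M₀)] (hN : CAlg.IsNagata (VR O M₀))
    {p : ℕ} (hp : p.Prime) [CharP Ω p] (ϖ : VR O M₀) (hϖ0 : ϖ ≠ 0) (hϖ : ϖ ∈ maximalIdeal (VR O M₀))
    (c : Ω) (hc : c ^ p ∈ M₀)
    (happ : ∀ m : ℕ, ∃ y ∈ M₀, ∃ x ∈ O, y ∈ O ∧ c - y = (toΩ O M₀ ϖ) ^ m * x) : c ∈ M₀ := by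
  by_contra hcM
  have hexp : ExpChar Ω p := ExpChar.prime hp
  let M : Subfield Ω := adj M₀ c
  have hM₀M : M₀ ≤ M := le_adj M₀ c
  have hcM' : c ∈ M := mem_adj M₀ c
  have hint : IsIntegral M₀ c := by
    refine ⟨X ^ p - C ⟨c ^ p, hc⟩, monic_X_pow_sub_C _ hp.ne_zero, ?_⟩
    rw [eval₂_sub, eval₂_X_pow, eval₂_C]
    exact sub_self _
  have hfd : @FiniteDimensional M₀ M _ _ (Subfield.inclusion hM₀M).toAlgebra.toModule :=
    IntermediateField.adjoin.finiteDimensional hint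
  have hpow : ∀ x ∈ M, x ^ p ∈ M₀ := by
    intro x hx
    have h1 : M ≤ M₀.comap (frobenius Ω p) := adj_le M₀ c _ (fun y hy => pow_mem hy p) hc
    exact h1 hx
  have hfin := NagataVal.finite_incl (O := O) M₀ M hM₀M hfd hN p hp.pos hpow
  have hgen : ∀ x ∈ M, ∃ P : M₀[X], P.degree < p ∧ P.eval₂ M₀.subtype c = x := by
    intro x hx
    have h1 := NagataVal.exists_poly_lt M₀ M c (X ^ p - C ⟨c ^ p, hc⟩) (monic_X_pow_sub_C _ hp.ne_zero) (by
      rw [eval₂_sub, eval₂_X_pow, eval₂_C]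
      exact sub_self _) (fun H h1 h2 => adj_le M₀ c H h1 h2) x hx
    rwa [degree_X_pow_sub_C hp.pos] at h1
  obtain ⟨k, hk⟩ := NagataVal.exists_conductor M₀ M hM₀M ϖ hϖ0 hϖ p c hgen hfin
  obtain ⟨y, hy, x, hxO, hyO, hcy⟩ := happ (k + 1)
  have hϖΩ : toΩ O M₀ ϖ ≠ 0 := by
    intro h0
    apply hϖ0
    apply toΩ_injective M₀
    rw [h0, map_zero]
  have hϖM₀ : toΩ O M₀ ϖ ∈ M₀ := (ϖ : M₀).2
  have hxM : x ∈ M := by
    have h1 : x = (toΩ O M₀ ϖ ^ (k + 1))⁻¹ * (c - y) := by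
      rw [hcy, inv_mul_cancel_left₀ (pow_ne_zero _ hϖΩ)]
    rw [h1]
    exact mul_mem (inv_mem (pow_mem (hM₀M hϖM₀) _)) (sub_mem hcM' (hM₀M hy))
  obtain ⟨P, hPd, hP⟩ := hk ⟨⟨x, hxM⟩, hxO⟩
  have hP' : P.eval₂ (toΩ O M₀) c = toΩ O M₀ ϖ ^ k * x := hP
  let y' : VR O M₀ := ⟨⟨y, hy⟩, hyO⟩
  let Q : (VR O M₀)[X] := C ϖ * P - (X - C y')
  have hQd : Q.degree < p := by
    refine lt_of_le_of_lt (degree_sub_le _ _) (max_lt ?_ ?_)
    · rw [degree_C_mul hϖ0]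
      exact hPd
    · rw [degree_X_sub_C]
      exact_mod_cast hp.one_lt
  have hQ : Q.eval₂ (toΩ O M₀) c = 0 := by
    show (C ϖ * P - (X - C y')).eval₂ (toΩ O M₀) c = 0
    rw [eval₂_sub, eval₂_mul, eval₂_C, hP', eval₂_sub, eval₂_X, eval₂_C]
    have h1 : toΩ O M₀ y' = y := rfl
    rw [h1, hcy, pow_succ]
    ring
  have hQ0 : (Q.map (algebraMap (VR O M₀) M₀)) = 0 := by
    refine NagataVal.eq_zero_of_degree_lt M₀ p hp c hcM ⟨c ^ p, hc⟩ rfl _ ?_ ?_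
    · exact lt_of_le_of_lt degree_map_le hQd
    · rw [eval₂_map]
      exact hQ
  have hQ1 : Q.coeff 1 = 0 := by
    have h1 := congrArg (fun q => q.coeff 1) hQ0
    simp only [coeff_map, coeff_zero] at h1
    exact Subtype.ext h1
  have hQ2 : Q.coeff 1 = ϖ * P.coeff 1 - 1 := by
    show (C ϖ * P - (X - C y')).coeff 1 = _
    rw [coeff_sub, coeff_C_mul, coeff_sub, coeff_X_one, coeff_C_succ, sub_zero]
  rw [hQ2, sub_eq_zero] at hQ1
  rw [mem_maximalIdeal, mem_nonunits_iff] at hϖ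
  exact hϖ (IsUnit.of_mul_eq_one _ hQ1)

end K362.NagRoot
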