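import Groth.Agent.Etalg2.H529.SolSep
import Groth.Agent.EtAlg.K362.SolUp

/-!
# A solution gives a good level
-/

set_option autoImplicit false
universe u

namespace K362.SolGoodOf

open Groth.Agent.Etalg.ResInd IsLocalRing IntermediateField EtRam
  Groth.Agent.Etalg.RamBasic Groth.Agent.Etalg2.H529.Step Groth.Agent.Etalg2.H529.SolSep

theorem isUnif_congr {Ω : Type u} [Field Ω] {O : ValuationSubring Ω} {F : Set Ω} {ϖ a : Ω} (h : IsUnif O F ϖ)
    (ha : O.valuation a = O.valuation ϖ) : IsUnif O F a := by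
  refine ⟨?_, ha ▸ h.2.1, fun x hx hx0 => ?_⟩
  · rintro rfl
    rw [map_zero] at ha
    exact h.pos.ne ha
  · obtain ⟨k, hk⟩ := h.2.2 x hx hx0
    exact ⟨k, by rw [ha]; exact hk⟩

/-- The valuation rings of isomorphic fields. -/
noncomputable def comapEquiv {K₁ K₂ M : Type u} [Field K₁] [Field K₂] [Field M] (e : K₂ ≃+* K₁) (f : K₁ →+* M)
    (f₂ : K₂ →+* M) (hf : ∀ x, f₂ x = f (e x)) (W : ValuationSubring M) : W.comap f₂ ≃+* W.comap f where
  toFun x := ⟨e x, by
    show f (e x) ∈ W
    rw [← hf]; exact x.2⟩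
  invFun x := ⟨e.symm x, by
    show f₂ (e.symm x) ∈ W
    rw [hf, e.apply_symm_apply]; exact x.2⟩
  left_inv x := Subtype.ext (e.symm_apply_apply _)
  right_inv x := Subtype.ext (e.apply_symm_apply _)
  map_mul' x y := Subtype.ext (map_mul e _ _)
  map_add' x y := Subtype.ext (map_add e _ _)

theorem geomReduced_comap {K₁ K₂ M : Type u} [Field K₁] [Field K₂] [Field M] (e : K₂ ≃+* K₁) (f : K₁ →+* M)
    (f₂ : K₂ →+* M) (hf : ∀ x, f₂ x = f (e x)) (W : ValuationSubring M)
    (h : @Algebra.IsGeometricallyReduced (ResidueField (W.comap f₂)) (ResidueField W) _ _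
        (ResidueField.map (inclOfComap W f₂)).toAlgebra) :
    @Algebra.IsGeometricallyReduced (ResidueField (W.comap f)) (ResidueField W) _ _
        (ResidueField.map (inclOfComap W f)).toAlgebra := by
  let _ : Algebra (ResidueField (W.comap f₂)) (ResidueField W) := (ResidueField.map (inclOfComap W f₂)).toAlgebra
  let _ : Algebra (ResidueField (W.comap f)) (ResidueField W) := (ResidueField.map (inclOfComap W f)).toAlgebra
  refine Groth.Agent.Etalg.SolNormal.geomReduced_of_hom
    (ResidueField.mapEquiv (comapEquiv e f f₂ hf W)).symm (RingHom.id _) ?_ h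
  intro x
  obtain ⟨y, rfl⟩ := (ResidueField.mapEquiv (comapEquiv e f f₂ hf W)).surjective x
  rw [RingEquiv.symm_apply_apply, RingHom.id_apply]
  obtain ⟨z, rfl⟩ := residue_surjective y
  show residue W (inclOfComap W f (comapEquiv e f f₂ hf W z)) = residue W (inclOfComap W f₂ z)
  congr 1
  apply Subtype.ext
  show f (e z) = f₂ z
  rw [hf]

theorem weaklyUnramified_comap {K₁ K₂ M : Type u} [Field K₁] [Field K₂] [Field M] (e : K₂ ≃+* K₁) (f : K₁ →+* M)
    (f₂ : K₂ →+* M) (hf : ∀ x, f₂ x = f (e x)) (W : ValuationSubring M)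
    (h : letI : Algebra (W.comap f₂) W := (inclOfComap W f₂).toAlgebra
         IsWeaklyUnramified (W.comap f₂) W) :
    letI : Algebra (W.comap f) W := (inclOfComap W f).toAlgebra
    IsWeaklyUnramified (W.comap f) W := by
  rw [Groth.Agent.Etalg.RamWeak.isWeaklyUnramified_incl_iff] at h ⊢
  intro x hx
  obtain ⟨a, ha, hxa⟩ := h x hx
  exact ⟨e a, by rw [← hf]; exact ha, by rw [← hf]; exact hxa⟩

/-- A solution gives a good level inside a valued algebraically closed field. -/
theorem good_of_isSolution {B K L Ω K₂ : Type u} [CommRing B] [IsDomain B] [IsDiscreteValuationRing B]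
    [Field K] [Field L] [Field Ω] [Field K₂] [Algebra K L] [Algebra B L] [IsFractionRing B L]
    [Algebra L Ω] [Algebra K Ω] [IsScalarTower K L Ω] [Algebra K K₂] [FiniteDimensional K K₂]
    (O : ValuationSubring Ω) (hO : Dominates B ((algebraMap L Ω).comp (algebraMap B L)) O)
    (h : IsSolution B K L K₂) (σ : K₂ →ₐ[K] Ω) : Good L O σ.fieldRange := by
  let E : IntermediateField K Ω := σ.fieldRange
  let M : IntermediateField K Ω := XL K L Ω ⊔ E
  let e : K₂ ≃ₐ[K] E := AlgEquiv.ofInjectiveField σ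
  have hE : FiniteDimensional K E := e.toLinearEquiv.finiteDimensional
  let f : E →+* M := (IntermediateField.inclusion (le_sup_right : E ≤ XL K L Ω ⊔ E)).toRingHom
  let f₂ : K₂ →+* M := f.comp (e : K₂ →+* E)
  let i0 : Algebra L M := (toM E).toAlgebra
  let i1 : Algebra K₂ M := f₂.toAlgebra
  have t1 : IsScalarTower K L M := IsScalarTower.of_algebraMap_eq fun x => Subtype.ext
    (IsScalarTower.algebraMap_apply K L Ω x)
  have t2 : IsScalarTower K K₂ M := IsScalarTower.of_algebraMap_eq fun x => Subtype.ext (by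
    show algebraMap K Ω x = σ (algebraMap K K₂ x)
    rw [AlgHom.commutes])
  have hadj : Algebra.adjoin L (Set.range (algebraMap K₂ M)) = ⊤ := by
    have h1 := adjoin_eq_top (L := L) E f (fun x => rfl)
    have h2 : Set.range (algebraMap K₂ M) = Set.range f := by
      ext x
      constructor
      · rintro ⟨y, rfl⟩
        exact ⟨e y, rfl⟩
      · rintro ⟨y, rfl⟩
        exact ⟨e.symm y, congrArg f (e.apply_symm_apply y)⟩
    rw [h2]
    exact h1
  let W : ValuationSubring M := O.comap (algebraMap M Ω)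
  have hW : Dominates B ((algebraMap L M).comp (algebraMap B L)) W := dominates_toM hO E
  obtain ⟨hw, hg⟩ := h M hadj W hW
  have hw' := weaklyUnramified_comap (e : K₂ ≃+* E) f f₂ (fun x => rfl) W hw
  have hg' := geomReduced_comap (e : K₂ ≃+* E) f f₂ (fun x => rfl) W hg
  rw [Groth.Agent.Etalg.RamWeak.isWeaklyUnramified_incl_iff] at hw'
  have dM : IsDiscreteValuationRing (O.comap (algebraMap M Ω)) := isDVR_M hO E
  obtain ⟨ϖ, hϖ⟩ := Groth.Agent.Etalg.ResTop.exists_isUnif (O := O) (algebraMap M Ω)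
  obtain ⟨a, ha1, ha2⟩ := hw' ϖ (by rw [valuation_comap_lt_one_iff]; exact hϖ.2.1)
  rw [valuation_comap_lt_one_iff] at ha1
  rw [valuation_comap_le_iff] at ha2
  have hva : O.valuation (a : Ω) = O.valuation (algebraMap M Ω ϖ) :=
    le_antisymm (hϖ.le_of_lt_one ⟨f a, rfl⟩ ha1) ha2
  have hπ : IsUnif O ((XL K L Ω ⊔ E : IntermediateField K Ω) : Set Ω) (a : Ω) := by
    have h1 := isUnif_congr hϖ hva
    refine h1.mono fun x hx => ⟨⟨x, hx⟩, rfl⟩
  exact good_of_isUnif E (a : Ω) a.2 hπ f rfl hg'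

end K362.SolGoodOf
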